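import Mathlib

/-!
A group with the commutator relations of the positive unipotent group of type `F₄` in characteristic two:
collection to normal form.
-/

set_option autoImplicit false
set_option linter.unusedSectionVars false
set_option linter.unusedSimpArgs false
set_option linter.unusedTactic false
set_option linter.unreachableTactic false
set_option linter.unnecessarySeqFocus false
set_option maxHeartbeats 2000000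
set_option maxRecDepth 4000

namespace CfsgLib.ReeF4Invol

universe u v

variable {K : Type u} [Field K] {G : Type v} [Group G]

/-- the pairs of positions with one commutator term -/
def onePairs : List (Fin 24 × Fin 24 × Fin 24) :=
  [(0, 2, 6), (0, 5, 8), (0, 11, 13), (0, 21, 23), (1, 3, 7), (1, 4, 9), (1, 10, 12), (1, 20, 22), (2, 8, 14), (2, 13, 17), (2, 19, 21), (3, 9, 15), (3, 12, 16), (3, 18, 20), (4, 7, 15), (4, 12, 18), (4, 16, 20), (5, 6, 14), (5, 13, 19), (5, 17, 21), (6, 11, 17), (6, 19, 23), (7, 10, 16), (7, 18, 22), (8, 11, 19), (8, 17, 23), (9, 10, 18), (9, 16, 22), (10, 15, 20), (11, 14, 21), (12, 15, 22), (13, 14, 23)]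

/-- the pairs of positions with two terms, the second parameter squared -/
def pairsA : List (Fin 24 × Fin 24 × Fin 24 × Fin 24) :=
  [(0, 4, 10, 14), (0, 9, 12, 17), (0, 15, 16, 19), (2, 3, 4, 5), (2, 7, 9, 11), (2, 16, 18, 23), (5, 12, 20, 23), (6, 7, 12, 13), (6, 15, 18, 21), (8, 9, 20, 21)]

/-- the pairs of positions with two terms, the first parameter squared -/
def pairsB : List (Fin 24 × Fin 24 × Fin 24 × Fin 24) :=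
  [(1, 5, 15, 11), (1, 8, 16, 13), (1, 14, 18, 17), (3, 6, 10, 8), (3, 17, 22, 19), (4, 13, 22, 21), (7, 14, 20, 19), (10, 11, 22, 23)]

/-- the pairs of positions with commutator -/
def keys : List (Fin 24 × Fin 24) :=
  onePairs.map (fun p => (p.1, p.2.1)) ++ (pairsA ++ pairsB).map (fun p => (p.1, p.2.1))

/-- the positions without commutator -/
abbrev Plain (i j : Fin 24) : Prop := keys.contains (i, j) = false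

/-- The commutator relations. -/
structure Rel (X : Fin 24 → K → G) : Prop where
  add : ∀ i s t, X i s * X i t = X i (s + t)
  zero : ∀ i, X i 0 = 1
  two : (2 : K) = 0
  comm : ∀ i j, i < j → Plain i j → ∀ u t, X j u * X i t = X i t * X j u
  one : ∀ i j k, (i, j, k) ∈ onePairs → ∀ u t, X j u * X i t = X i t * (X j u * X k (t * u))
  twoA : ∀ i j k l, (i, j, k, l) ∈ pairsA →
    ∀ u t, X j u * X i t = X i t * (X j u * (X k (t * u) * X l (t * (u * u))))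
  twoB : ∀ i j k l, (i, j, k, l) ∈ pairsB →
    ∀ u t, X j u * X i t = X i t * (X j u * (X k (t * u) * X l (t * t * u)))

/-- The ordered product. -/
def W {X : Fin 24 → K → G} (_R : Rel X) (x : Fin 24 → K) : G :=
  X 0 (x 0) * (X 1 (x 1) * (X 2 (x 2) * (X 3 (x 3) * (X 4 (x 4) * (X 5 (x 5) * (X 6 (x 6) * (X 7 (x 7) * (X 8 (x 8) * (X 9 (x 9) * (X 10 (x 10) * (X 11 (x 11) * (X 12 (x 12) * (X 13 (x 13) * (X 14 (x 14) * (X 15 (x 15) * (X 16 (x 16) * (X 17 (x 17) * (X 18 (x 18) * (X 19 (x 19) * (X 20 (x 20) * (X 21 (x 21) * (X 22 (x 22) * (X 23 (x 23) * 1)))))))))))))))))))))))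

/-- The coordinates of a product. -/
def mv (x y : Fin 24 → K) : Fin 24 → K := ![
      x 0 + y 0,
      x 1 + y 1,
      x 2 + y 2,
      x 3 + y 3,
      x 4 + y 4 + x 3 * y 2,
      x 5 + y 5 + x 3 * x 3 * y 2,
      x 6 + y 6 + x 2 * y 0,
      x 7 + y 7 + x 3 * y 1,
      x 8 + y 8 + x 5 * y 0 + x 6 * y 3 * y 3 + x 2 * x 3 * x 3 * y 0 + x 2 * y 0 * y 3 * y 3,
      x 9 + y 9 + x 4 * y 1 + x 7 * y 2 + x 3 * y 2 * y 1,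
      x 10 + y 10 + x 6 * y 3 + x 4 * y 0 + x 2 * x 3 * y 0 + x 2 * y 0 * y 3,
      x 11 + y 11 + x 5 * y 1 * y 1 + x 7 * x 7 * y 2 + x 3 * x 3 * y 2 * y 1 * y 1,
      x 12 + y 12 + x 10 * y 1 + x 7 * y 6 + x 9 * y 0 + x 6 * x 3 * y 1 + x 3 * y 6 * y 1 + x 4 * y 0 * y 1,
      x 13 + y 13 + x 11 * y 0 + x 8 * y 1 * y 1 + x 7 * x 7 * y 6 + x 5 * y 0 * y 1 * y 1 + x 6 * x 3 * x 3 * y 1 * y 1 + x 3 * x 3 * y 6 * y 1 * y 1,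
      x 14 + y 14 + x 6 * y 5 + x 8 * y 2 + x 2 * x 5 * y 0 + x 2 * y 0 * y 5 + x 4 * x 4 * y 0 + x 5 * y 0 * y 2 + x 2 * x 3 * x 3 * y 0 * y 2,
      x 15 + y 15 + x 5 * y 1 + x 7 * y 4 + x 9 * y 3 + x 3 * x 4 * y 1 + x 3 * y 4 * y 1 + x 4 * y 3 * y 1 + x 7 * y 2 * y 3 + x 3 * y 2 * y 3 * y 1,
      x 16 + y 16 + x 10 * y 7 + x 8 * y 1 + x 12 * y 3 + x 15 * y 0 + x 6 * x 7 * y 3 + x 6 * y 3 * y 7 + x 4 * x 7 * y 0 + x 4 * y 0 * y 7 + x 10 * y 3 * y 1 + x 5 * y 0 * y 1 + x 9 * y 0 * y 3 + x 2 * x 3 * x 7 * y 0 + x 2 * x 3 * y 0 * y 7 + x 2 * x 7 * y 0 * y 3 + x 2 * y 0 * y 3 * y 7 + x 4 * y 0 * y 3 * y 1 + x 2 * x 3 * x 3 * y 0 * y 1 + x 2 * x 3 * y 0 * y 3 * y 1,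
      x 17 + y 17 + x 11 * y 6 + x 13 * y 2 + x 14 * y 1 * y 1 + x 9 * x 9 * y 0 + x 11 * y 0 * y 2 + x 6 * x 5 * y 1 * y 1 + x 5 * y 6 * y 1 * y 1 + x 8 * y 2 * y 1 * y 1 + x 7 * x 7 * y 2 * y 6 + x 4 * x 4 * y 0 * y 1 * y 1 + x 5 * y 0 * y 2 * y 1 * y 1 + x 6 * x 3 * x 3 * y 2 * y 1 * y 1 + x 3 * x 3 * y 2 * y 6 * y 1 * y 1,
      x 18 + y 18 + x 10 * y 9 + x 14 * y 1 + x 12 * y 4 + x 15 * y 6 + x 16 * y 2 + x 6 * x 5 * y 1 + x 6 * x 9 * y 3 + x 6 * y 3 * y 9 + x 4 * x 9 * y 0 + x 4 * y 0 * y 9 + x 10 * y 4 * y 1 + x 5 * y 6 * y 1 + x 8 * y 2 * y 1 + x 7 * y 6 * y 4 + x 9 * y 0 * y 4 + x 9 * y 6 * y 3 + x 15 * y 0 * y 2 + x 2 * x 3 * x 9 * y 0 + x 2 * x 3 * y 0 * y 9 + x 2 * x 9 * y 0 * y 3 + x 2 * y 0 * y 3 * y 9 + x 6 * x 3 * x 4 * y 1 + x 6 * x 3 * y 4 * y 1 + x 6 * x 4 * y 3 * y 1 + x 6 * x 7 * y 2 * y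 3 + x 3 * x 4 * y 6 * y 1 + x 3 * y 6 * y 4 * y 1 + x 4 * x 4 * y 0 * y 1 + x 4 * x 7 * y 0 * y 2 + x 4 * y 0 * y 4 * y 1 + x 4 * y 6 * y 3 * y 1 + x 5 * y 0 * y 2 * y 1 + x 7 * y 2 * y 6 * y 3 + x 2 * x 3 * x 4 * y 0 * y 1 + x 2 * x 3 * x 7 * y 0 * y 2 + x 2 * x 4 * y 0 * y 3 * y 1 + x 2 * x 7 * y 0 * y 2 * y 3 + x 6 * x 3 * y 2 * y 3 * y 1 + x 3 * y 2 * y 6 * y 3 * y 1 + x 2 * x 3 * x 3 * y 0 * y 2 * y 1 + x 2 * x 3 * y 0 * y 2 * y 3 * y 1,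
      x 19 + y 19 + x 11 * y 8 + x 13 * y 5 + x 14 * y 7 * y 7 + x 15 * x 15 * y 0 + x 11 * y 0 * y 5 + x 17 * y 3 * y 3 + x 6 * x 7 * x 7 * y 5 + x 6 * y 5 * y 7 * y 7 + x 5 * x 8 * y 1 * y 1 + x 5 * y 8 * y 1 * y 1 + x 8 * x 7 * x 7 * y 2 + x 8 * y 2 * y 7 * y 7 + x 8 * y 5 * y 1 * y 1 + x 7 * x 7 * y 2 * y 8 + x 13 * y 2 * y 3 * y 3 + x 2 * x 5 * x 7 * x 7 * y 0 + x 2 * x 5 * y 0 * y 7 * y 7 + x 2 * x 7 * x 7 * y 0 * y 5 + x 2 * y 0 * y 5 * y 7 * y 7 + x 4 * x 4 * x 7 * x 7 * y 0 + x 4 * x 4 * y 0 * y 7 * y 7 + x 5 * x 5 * y 0 * y 1 * y 1 + x 5 * x 7 * x 7 * y 0 * y 2 + x 5 * y 0 * y 2 * y 7 * y 7 + x 5 * y 0 * y 5 * y 1 * y 1 + x 14 * y 3 * y 3 * y 1 * y 1 + x 9 * x 9 * y 0 * y 3 * y 3 + x 11 * y 0 * y 2 * y 3 * y 3 + x 6 * x 5 * y 3 * y 3 * y 1 * y 1 + x 3 * x 3 * x 8 * y 2 * y 1 * y 1 + x 3 * x 3 * y 2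 * y 8 * y 1 * y 1 + x 8 * y 2 * y 3 * y 3 * y 1 * y 1 + x 2 * x 3 * x 3 * x 5 * y 0 * y 1 * y 1 + x 2 * x 3 * x 3 * x 7 * x 7 * y 0 * y 2 + x 2 * x 3 * x 3 * y 0 * y 2 * y 7 * y 7 + x 2 * x 3 * x 3 * y 0 * y 5 * y 1 * y 1 + x 3 * x 3 * x 5 * y 0 * y 2 * y 1 * y 1 + x 4 * x 4 * y 0 * y 3 * y 3 * y 1 * y 1 + x 5 * y 0 * y 2 * y 3 * y 3 * y 1 * y 1 + x 6 * x 3 * x 3 * y 2 * y 3 * y 3 * y 1 * y 1 + x 2 * x 3 * x 3 * x 3 * x 3 * y 0 * y 2 * y 1 * y 1,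
      x 20 + y 20 + x 14 * y 7 + x 9 * y 8 + x 12 * y 5 + x 15 * y 10 + x 16 * y 4 + x 18 * y 3 + x 6 * x 7 * y 5 + x 6 * y 5 * y 7 + x 4 * x 8 * y 1 + x 4 * y 8 * y 1 + x 10 * x 5 * y 1 + x 10 * x 7 * y 4 + x 10 * x 9 * y 3 + x 10 * y 5 * y 1 + x 5 * y 10 * y 1 + x 8 * x 7 * y 2 + x 8 * y 2 * y 7 + x 8 * y 4 * y 1 + x 14 * y 3 * y 1 + x 7 * y 2 * y 8 + x 7 * y 4 * y 10 + x 9 * y 0 * y 5 + x 9 * y 3 * y 10 + x 12 * y 3 * y 4 + x 15 * y 0 * y 4 + x 16 * y 2 * y 3 + x 2 * x 5 * x 7 * y 0 + x 2 * x 5 * y 0 * y 7 + x 2 * x 7 * y 0 * y 5 + x 2 * y 0 * y 5 * y 7 + x 6 * x 5 * y 3 * y 1 + x 3 * x 4 * x 10 * y 1 + x 3 * x 4 * y 10 * y 1 + x 3 * x 10 * y 4 * y 1 + x 3 * x 8 * y 2 * y 1 + x 3 * y 2 * y 8 * y 1 + x 3 * y 4 * y 10 * y 1 + x 4 * x 4 * x 7 * y 0 + x 4 * x 4 * y 0 * y 7 + x 4 * x 10 * y 3 * y 1 + x 4 * y 0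 * y 5 * y 1 + x 4 * y 3 * y 10 * y 1 + x 10 * x 7 * y 2 * y 3 + x 10 * y 3 * y 4 * y 1 + x 5 * x 7 * y 0 * y 2 + x 5 * y 0 * y 2 * y 7 + x 5 * y 0 * y 4 * y 1 + x 8 * y 2 * y 3 * y 1 + x 7 * y 2 * y 3 * y 10 + x 9 * y 0 * y 3 * y 4 + x 15 * y 0 * y 2 * y 3 + x 2 * x 3 * x 5 * y 0 * y 1 + x 2 * x 3 * y 0 * y 5 * y 1 + x 6 * x 3 * x 4 * y 3 * y 1 + x 6 * x 3 * y 3 * y 4 * y 1 + x 3 * x 4 * x 4 * y 0 * y 1 + x 3 * x 4 * y 0 * y 4 * y 1 + x 3 * x 10 * y 2 * y 3 * y 1 + x 3 * x 5 * y 0 * y 2 * y 1 + x 3 * y 2 * y 3 * y 10 * y 1 + x 4 * y 0 * y 3 * y 4 * y 1 + x 5 * y 0 * y 2 * y 3 * y 1 + x 2 * x 3 * x 3 * x 7 * y 0 * y 2 + x 2 * x 3 * x 3 * y 0 * y 2 * y 7 + x 3 * x 4 * y 0 * y 2 * y 3 * y 1 + x 2 * x 3 * x 3 * x 3 * y 0 * y 2 * y 1,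
      x 21 + y 21 + x 14 * y 11 + x 17 * y 5 + x 19 * y 2 + x 6 * x 11 * y 5 + x 6 * y 5 * y 11 + x 8 * x 11 * y 2 + x 8 * y 2 * y 11 + x 9 * x 9 * y 8 + x 15 * x 15 * y 6 + x 13 * y 2 * y 5 + x 13 * y 4 * y 4 + x 2 * x 5 * x 11 * y 0 + x 2 * x 5 * y 0 * y 11 + x 2 * x 11 * y 0 * y 5 + x 2 * y 0 * y 5 * y 11 + x 4 * x 4 * x 11 * y 0 + x 4 * x 4 * y 0 * y 11 + x 5 * x 11 * y 0 * y 2 + x 5 * y 0 * y 2 * y 11 + x 14 * y 5 * y 1 * y 1 + x 9 * x 9 * y 0 * y 5 + x 15 * x 15 * y 0 * y 2 + x 11 * y 0 * y 2 * y 5 + x 11 * y 0 * y 4 * y 4 + x 6 * x 5 * x 5 * y 1 * y 1 + x 6 * x 7 * x 7 * y 2 * y 5 + x 4 * x 4 * x 8 * y 1 * y 1 + x 4 * x 4 * y 8 * y 1 * y 1 + x 5 * x 5 * y 6 * y 1 * y 1 + x 8 * x 7 * x 7 * y 2 * y 2 + x 8 * y 2 * y 5 * y 1 * y 1 + x 8 * y 4 * y 4 * y 1 * y 1 + x 7 * x 7 * y 2 * y 2 * y 8 + x 7 * x 7 * y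 6 * y 4 * y 4 + x 9 * x 9 * y 6 * y 3 * y 3 + x 2 * x 3 * x 3 * x 11 * y 0 * y 2 + x 2 * x 3 * x 3 * y 0 * y 2 * y 11 + x 2 * x 5 * x 5 * y 0 * y 1 * y 1 + x 2 * x 5 * x 7 * x 7 * y 0 * y 2 + x 2 * x 5 * y 0 * y 5 * y 1 * y 1 + x 2 * x 7 * x 7 * y 0 * y 2 * y 5 + x 4 * x 4 * x 5 * y 0 * y 1 * y 1 + x 4 * x 4 * x 7 * x 7 * y 0 * y 2 + x 4 * x 4 * y 0 * y 5 * y 1 * y 1 + x 5 * x 7 * x 7 * y 0 * y 2 * y 2 + x 5 * y 0 * y 2 * y 5 * y 1 * y 1 + x 5 * y 0 * y 4 * y 4 * y 1 * y 1 + x 6 * x 3 * x 3 * x 4 * x 4 * y 1 * y 1 + x 6 * x 3 * x 3 * y 4 * y 4 * y 1 * y 1 + x 3 * x 3 * x 4 * x 4 * y 6 * y 1 * y 1 + x 3 * x 3 * x 8 * y 2 * y 2 * y 1 * y 1 + x 3 * x 3 * y 2 * y 2 * y 8 * y 1 * y 1 + x 3 * x 3 * y 6 * y 4 * y 4 * y 1 * y 1 + x 4 * x 4 * y 6 * y 3 * y 3 * y 1 * y 1 + x 7 * x 7 * y 2 * y 2 * y 6 * y 3 * y 3 + x 2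 * x 3 * x 3 * x 7 * x 7 * y 0 * y 2 * y 2 + x 2 * x 3 * x 3 * y 0 * y 2 * y 5 * y 1 * y 1 + x 3 * x 3 * x 5 * y 0 * y 2 * y 2 * y 1 * y 1 + x 3 * x 3 * y 2 * y 2 * y 6 * y 3 * y 3 * y 1 * y 1 + x 2 * x 3 * x 3 * x 3 * x 3 * y 0 * y 2 * y 2 * y 1 * y 1,
      x 22 + y 22 + x 15 * y 12 + x 16 * y 9 + x 18 * y 7 + x 20 * y 1 + x 11 * y 10 + x 13 * y 4 + x 17 * y 3 + x 10 * y 7 * y 9 + x 5 * x 12 * y 1 + x 5 * y 1 * y 12 + x 8 * x 9 * y 1 + x 8 * y 1 * y 9 + x 14 * y 1 * y 7 + x 7 * x 12 * y 4 + x 7 * y 4 * y 12 + x 9 * x 12 * y 3 + x 9 * y 3 * y 12 + x 12 * y 3 * y 9 + x 12 * y 4 * y 7 + x 15 * y 0 * y 9 + x 15 * y 6 * y 7 + x 16 * y 2 * y 7 + x 11 * y 0 * y 4 + x 13 * y 2 * y 3 + x 6 * x 5 * x 7 * y 1 + x 6 * x 5 * y 1 * y 7 + x 6 * x 7 * x 9 * y 3 + x 6 * x 7 * y 3 * y 9 + x 6 * x 9 * y 3 * y 7 + x 6 * y 3 * y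 7 * y 9 + x 3 * x 4 * x 12 * y 1 + x 3 * x 4 * y 1 * y 12 + x 3 * x 12 * y 4 * y 1 + x 3 * y 4 * y 1 * y 12 + x 4 * x 7 * x 9 * y 0 + x 4 * x 7 * y 0 * y 9 + x 4 * x 9 * y 0 * y 7 + x 4 * x 12 * y 3 * y 1 + x 4 * y 0 * y 7 * y 9 + x 4 * y 3 * y 1 * y 12 + x 10 * x 7 * x 7 * y 2 + x 10 * x 7 * y 4 * y 1 + x 10 * x 9 * y 3 * y 1 + x 10 * y 3 * y 1 * y 9 + x 10 * y 4 * y 1 * y 7 + x 5 * y 0 * y 1 * y 9 + x 5 * y 6 * y 1 * y 7 + x 5 * y 10 * y 1 * y 1 + x 8 * y 2 * y 1 * y 7 + x 8 * y 4 * y 1 * y 1 + x 14 * y 3 * y 1 * y 1 + x 7 * x 7 * y 2 * y 10 + x 7 * x 9 * y 0 * y 4 + x 7 * x 12 * y 2 * y 3 + x 7 * y 2 * y 3 * y 12 + x 7 * y 6 * y 4 * y 7 + x 9 * y 0 * y 3 * y 9 + x 9 * y 0 * y 4 * y 7 + x 9 * y 6 * y 3 * y 7 + x 15 * y 0 * y 2 * y 7 + x 11 * y 0 * y 2 * y 3 + x 2 * x 3 * x 7 * x 9 * y 0 + x 2 * x 3 * x 7 *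 y 0 * y 9 + x 2 * x 3 * x 9 * y 0 * y 7 + x 2 * x 3 * y 0 * y 7 * y 9 + x 2 * x 7 * x 9 * y 0 * y 3 + x 2 * x 7 * y 0 * y 3 * y 9 + x 2 * x 9 * y 0 * y 3 * y 7 + x 2 * y 0 * y 3 * y 7 * y 9 + x 6 * x 3 * x 4 * x 7 * y 1 + x 6 * x 3 * x 4 * y 1 * y 7 + x 6 * x 3 * x 7 * y 4 * y 1 + x 6 * x 3 * y 4 * y 1 * y 7 + x 6 * x 4 * x 7 * y 3 * y 1 + x 6 * x 4 * y 3 * y 1 * y 7 + x 6 * x 5 * y 3 * y 1 * y 1 + x 6 * x 7 * x 7 * y 2 * y 3 + x 6 * x 7 * y 2 * y 3 * y 7 + x 3 * x 4 * x 10 * y 1 * y 1 + x 3 * x 4 * x 9 * y 0 * y 1 + x 3 * x 4 * y 6 * y 1 * y 7 + x 3 * x 10 * y 4 * y 1 * y 1 + x 3 * x 9 * y 0 * y 4 * y 1 + x 3 * x 12 * y 2 * y 3 * y 1 + x 3 * y 2 * y 3 * y 1 * y 12 + x 3 * y 6 * y 4 * y 1 * y 7 + x 4 * x 4 * x 7 * y 0 * y 1 + x 4 * x 4 * y 0 * y 1 * y 7 + x 4 * x 10 * y 3 * y 1 * y 1 + x 4 * x 7 * x 7 * y 0 *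 y 2 + x 4 * x 7 * y 0 * y 2 * y 7 + x 4 * x 7 * y 0 * y 4 * y 1 + x 4 * y 0 * y 3 * y 1 * y 9 + x 4 * y 0 * y 4 * y 1 * y 7 + x 4 * y 6 * y 3 * y 1 * y 7 + x 10 * x 7 * y 2 * y 3 * y 1 + x 5 * y 0 * y 2 * y 1 * y 7 + x 5 * y 0 * y 4 * y 1 * y 1 + x 8 * y 2 * y 3 * y 1 * y 1 + x 7 * x 9 * y 0 * y 2 * y 3 + x 7 * y 2 * y 6 * y 3 * y 7 + x 2 * x 3 * x 3 * x 9 * y 0 * y 1 + x 2 * x 3 * x 3 * y 0 * y 1 * y 9 + x 2 * x 3 * x 4 * x 7 * y 0 * y 1 + x 2 * x 3 * x 4 * y 0 * y 1 * y 7 + x 2 * x 3 * x 7 * x 7 * y 0 * y 2 + x 2 * x 3 * x 7 * y 0 * y 2 * y 7 + x 2 * x 3 * x 9 * y 0 * y 3 * y 1 + x 2 * x 3 * y 0 * y 3 * y 1 * y 9 + x 2 * x 4 * x 7 * y 0 * y 3 * y 1 + x 2 * x 4 * y 0 * y 3 * y 1 * y 7 + x 2 * x 7 * x 7 * y 0 * y 2 * y 3 + x 2 * x 7 * y 0 * y 2 * y 3 * y 7 + x 6 * x 3 * x 7 * y 2 * y 3 * y 1 + x 6 * x 3 * y 2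 * y 3 * y 1 * y 7 + x 3 * x 3 * x 10 * y 2 * y 1 * y 1 + x 3 * x 3 * y 2 * y 10 * y 1 * y 1 + x 3 * x 4 * x 4 * y 0 * y 1 * y 1 + x 3 * x 4 * y 0 * y 4 * y 1 * y 1 + x 3 * x 10 * y 2 * y 3 * y 1 * y 1 + x 3 * x 9 * y 0 * y 2 * y 3 * y 1 + x 3 * y 2 * y 6 * y 3 * y 1 * y 7 + x 4 * x 7 * y 0 * y 2 * y 3 * y 1 + x 5 * y 0 * y 2 * y 3 * y 1 * y 1 + x 2 * x 3 * x 3 * x 4 * y 0 * y 1 * y 1 + x 2 * x 3 * x 3 * y 0 * y 2 * y 1 * y 7 + x 2 * x 3 * x 4 * y 0 * y 3 * y 1 * y 1 + x 2 * x 3 * y 0 * y 2 * y 3 * y 1 * y 7 + x 6 * x 3 * x 3 * y 2 * y 3 * y 1 * y 1 + x 3 * x 3 * x 4 * y 0 * y 2 * y 1 * y 1 + x 3 * x 4 * y 0 * y 2 * y 3 * y 1 * y 1 + x 2 * x 3 * x 3 * x 3 * y 0 * y 2 * y 1 * y 1 + x 2 * x 3 * x 3 * y 0 * y 2 * y 3 * y 1 * y 1,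
      x 23 + y 23 + x 14 * y 13 + x 17 * y 8 + x 19 * y 6 + x 21 * y 0 + x 6 * x 13 * y 5 + x 6 * y 5 * y 13 + x 8 * x 13 * y 2 + x 8 * y 2 * y 13 + x 12 * x 12 * y 5 + x 16 * x 16 * y 2 + x 11 * y 6 * y 8 + x 11 * y 10 * y 10 + x 13 * y 2 * y 8 + x 13 * y 6 * y 5 + x 2 * x 5 * x 13 * y 0 + x 2 * x 5 * y 0 * y 13 + x 2 * x 13 * y 0 * y 5 + x 2 * y 0 * y 5 * y 13 + x 6 * x 11 * y 0 * y 5 + x 4 * x 4 * x 13 * y 0 + x 4 * x 4 * y 0 * y 13 + x 5 * x 13 * y 0 * y 2 + x 5 * y 0 * y 2 * y 13 + x 8 * x 11 * y 0 * y 2 + x 14 * y 8 * y 1 * y 1 + x 9 * x 9 * y 0 * y 8 + x 15 * x 15 * y 0 * y 6 + x 11 * y 0 * y 2 * y 8 + x 11 * y 0 * y 6 * y 5 + x 17 * y 6 * y 3 * y 3 + x 2 * x 5 * x 11 * y 0 * y 0 + x 2 * x 11 * y 0 * y 0 * y 5 + x 6 * x 5 * x 8 * y 1 * y 1 + x 6 * x 5 * y 8 * y 1 * y 1 + x 6 * x 8 * y 5 * y 1 * y 1 + x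 6 * x 7 * x 7 * y 6 * y 5 + x 4 * x 4 * x 11 * y 0 * y 0 + x 10 * x 10 * x 5 * y 1 * y 1 + x 10 * x 10 * x 7 * x 7 * y 2 + x 10 * x 10 * y 5 * y 1 * y 1 + x 5 * x 8 * y 6 * y 1 * y 1 + x 5 * x 11 * y 0 * y 0 * y 2 + x 5 * y 6 * y 8 * y 1 * y 1 + x 5 * y 10 * y 10 * y 1 * y 1 + x 8 * x 7 * x 7 * y 2 * y 6 + x 8 * y 2 * y 8 * y 1 * y 1 + x 8 * y 6 * y 5 * y 1 * y 1 + x 7 * x 7 * y 2 * y 6 * y 8 + x 7 * x 7 * y 2 * y 10 * y 10 + x 9 * x 9 * y 0 * y 0 * y 5 + x 15 * x 15 * y 0 * y 0 * y 2 + x 13 * y 2 * y 6 * y 3 * y 3 + x 2 * x 3 * x 3 * x 13 * y 0 * y 2 + x 2 * x 3 * x 3 * y 0 * y 2 * y 13 + x 2 * x 5 * x 8 * y 0 * y 1 * y 1 + x 2 * x 5 * x 7 * x 7 * y 0 * y 6 + x 2 * x 8 * y 0 * y 5 * y 1 * y 1 + x 2 * x 7 * x 7 * y 0 * y 6 * y 5 + x 6 * x 5 * x 5 * y 0 * y 1 * y 1 + x 6 * x 5 * y 0 * y 5 * y 1 * y 1 + x 4 * x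 4 * x 7 * x 7 * y 0 * y 6 + x 4 * x 4 * y 0 * y 8 * y 1 * y 1 + x 5 * x 5 * y 0 * y 6 * y 1 * y 1 + x 5 * x 7 * x 7 * y 0 * y 2 * y 6 + x 5 * y 0 * y 2 * y 8 * y 1 * y 1 + x 5 * y 0 * y 6 * y 5 * y 1 * y 1 + x 14 * y 6 * y 3 * y 3 * y 1 * y 1 + x 9 * x 9 * y 0 * y 6 * y 3 * y 3 + x 11 * y 0 * y 2 * y 6 * y 3 * y 3 + x 2 * x 3 * x 3 * x 11 * y 0 * y 0 * y 2 + x 2 * x 5 * x 5 * y 0 * y 0 * y 1 * y 1 + x 2 * x 5 * y 0 * y 0 * y 5 * y 1 * y 1 + x 6 * x 3 * x 3 * x 8 * y 2 * y 1 * y 1 + x 6 * x 3 * x 3 * y 2 * y 8 * y 1 * y 1 + x 6 * x 5 * y 6 * y 3 * y 3 * y 1 * y 1 + x 3 * x 3 * x 10 * x 10 * y 2 * y 1 * y 1 + x 3 * x 3 * x 8 * y 2 * y 6 * y 1 * y 1 + x 3 * x 3 * y 2 * y 6 * y 8 * y 1 * y 1 + x 3 * x 3 * y 2 * y 10 * y 10 * y 1 * y 1 + x 4 * x 4 * x 5 * y 0 * y 0 * y 1 * y 1 + x 4 * x 4 * y 0 * y 0 * y 5 * y 1 *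 y 1 + x 8 * y 2 * y 6 * y 3 * y 3 * y 1 * y 1 + x 2 * x 6 * x 3 * x 3 * x 5 * y 0 * y 1 * y 1 + x 2 * x 6 * x 3 * x 3 * y 0 * y 5 * y 1 * y 1 + x 2 * x 3 * x 3 * x 5 * y 0 * y 6 * y 1 * y 1 + x 2 * x 3 * x 3 * x 8 * y 0 * y 2 * y 1 * y 1 + x 2 * x 3 * x 3 * x 7 * x 7 * y 0 * y 2 * y 6 + x 2 * x 3 * x 3 * y 0 * y 6 * y 5 * y 1 * y 1 + x 6 * x 3 * x 3 * x 5 * y 0 * y 2 * y 1 * y 1 + x 3 * x 3 * x 5 * y 0 * y 2 * y 6 * y 1 * y 1 + x 4 * x 4 * y 0 * y 6 * y 3 * y 3 * y 1 * y 1 + x 5 * y 0 * y 2 * y 6 * y 3 * y 3 * y 1 * y 1 + x 2 * x 3 * x 3 * x 5 * y 0 * y 0 * y 2 * y 1 * y 1 + x 6 * x 3 * x 3 * y 2 * y 6 * y 3 * y 3 * y 1 * y 1 + x 3 * x 3 * x 4 * x 4 * y 0 * y 0 * y 2 * y 1 * y 1 + x 2 * x 6 * x 3 * x 3 * x 3 * x 3 * y 0 * y 2 * y 1 * y 1 + x 2 * x 3 * x 3 * x 3 * x 3 * y 0 * y 2 * y 6 * y 1 * y 1]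

variable {X : Fin 24 → K → G} (R : Rel X)
include R

theorem pass {i j : Fin 24} (h : i < j) (h' : Plain i j) (u t : K) (z : G) :
    X j u * (X i t * z) = X i t * (X j u * z) := by
  rw [← mul_assoc, R.comm i j h h', mul_assoc]

theorem merge (i : Fin 24) (s t : K) (z : G) : X i s * (X i t * z) = X i (s + t) * z := by
  rw [← mul_assoc, R.add]

theorem three : (3 : K) = 1 := by linear_combination R.two

theorem four : (4 : K) = 0 := by linear_combination 2 * R.two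

theorem five : (5 : K) = 1 := by linear_combination 2 * R.two

theorem six : (6 : K) = 0 := by linear_combination 3 * R.two

theorem seven : (7 : K) = 1 := by linear_combination 3 * R.two

theorem eight : (8 : K) = 0 := by linear_combination 4 * R.two

theorem nine : (9 : K) = 1 := by linear_combination 4 * R.two

theorem ten : (10 : K) = 0 := by linear_combination 5 * R.two

theorem s0_2 (u t : K) (z : G) :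
    X 2 u * (X 0 t * z) = X 0 t * (X 2 u * (X 6 (t * u) * z)) := by
  rw [← mul_assoc, R.one 0 2 6 (by decide)]
  simp only [mul_assoc]

theorem s0_5 (u t : K) (z : G) :
    X 5 u * (X 0 t * z) = X 0 t * (X 5 u * (X 8 (t * u) * z)) := by
  rw [← mul_assoc, R.one 0 5 8 (by decide)]
  simp only [mul_assoc]

theorem s0_11 (u t : K) (z : G) :
    X 11 u * (X 0 t * z) = X 0 t * (X 11 u * (X 13 (t * u) * z)) := by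
  rw [← mul_assoc, R.one 0 11 13 (by decide)]
  simp only [mul_assoc]

theorem s0_21 (u t : K) (z : G) :
    X 21 u * (X 0 t * z) = X 0 t * (X 21 u * (X 23 (t * u) * z)) := by
  rw [← mul_assoc, R.one 0 21 23 (by decide)]
  simp only [mul_assoc]

theorem s1_3 (u t : K) (z : G) :
    X 3 u * (X 1 t * z) = X 1 t * (X 3 u * (X 7 (t * u) * z)) := by
  rw [← mul_assoc, R.one 1 3 7 (by decide)]
  simp only [mul_assoc]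

theorem s1_4 (u t : K) (z : G) :
    X 4 u * (X 1 t * z) = X 1 t * (X 4 u * (X 9 (t * u) * z)) := by
  rw [← mul_assoc, R.one 1 4 9 (by decide)]
  simp only [mul_assoc]

theorem s1_10 (u t : K) (z : G) :
    X 10 u * (X 1 t * z) = X 1 t * (X 10 u * (X 12 (t * u) * z)) := by
  rw [← mul_assoc, R.one 1 10 12 (by decide)]
  simp only [mul_assoc]

theorem s1_20 (u t : K) (z : G) :
    X 20 u * (X 1 t * z) = X 1 t * (X 20 u * (X 22 (t * u) * z)) := by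
  rw [← mul_assoc, R.one 1 20 22 (by decide)]
  simp only [mul_assoc]

theorem s2_8 (u t : K) (z : G) :
    X 8 u * (X 2 t * z) = X 2 t * (X 8 u * (X 14 (t * u) * z)) := by
  rw [← mul_assoc, R.one 2 8 14 (by decide)]
  simp only [mul_assoc]

theorem s2_13 (u t : K) (z : G) :
    X 13 u * (X 2 t * z) = X 2 t * (X 13 u * (X 17 (t * u) * z)) := by
  rw [← mul_assoc, R.one 2 13 17 (by decide)]
  simp only [mul_assoc]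

theorem s2_19 (u t : K) (z : G) :
    X 19 u * (X 2 t * z) = X 2 t * (X 19 u * (X 21 (t * u) * z)) := by
  rw [← mul_assoc, R.one 2 19 21 (by decide)]
  simp only [mul_assoc]

theorem s3_9 (u t : K) (z : G) :
    X 9 u * (X 3 t * z) = X 3 t * (X 9 u * (X 15 (t * u) * z)) := by
  rw [← mul_assoc, R.one 3 9 15 (by decide)]
  simp only [mul_assoc]

theorem s3_12 (u t : K) (z : G) :
    X 12 u * (X 3 t * z) = X 3 t * (X 12 u * (X 16 (t * u) * z)) := by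
  rw [← mul_assoc, R.one 3 12 16 (by decide)]
  simp only [mul_assoc]

theorem s3_18 (u t : K) (z : G) :
    X 18 u * (X 3 t * z) = X 3 t * (X 18 u * (X 20 (t * u) * z)) := by
  rw [← mul_assoc, R.one 3 18 20 (by decide)]
  simp only [mul_assoc]

theorem s4_7 (u t : K) (z : G) :
    X 7 u * (X 4 t * z) = X 4 t * (X 7 u * (X 15 (t * u) * z)) := by
  rw [← mul_assoc, R.one 4 7 15 (by decide)]
  simp only [mul_assoc]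

theorem s4_12 (u t : K) (z : G) :
    X 12 u * (X 4 t * z) = X 4 t * (X 12 u * (X 18 (t * u) * z)) := by
  rw [← mul_assoc, R.one 4 12 18 (by decide)]
  simp only [mul_assoc]

theorem s4_16 (u t : K) (z : G) :
    X 16 u * (X 4 t * z) = X 4 t * (X 16 u * (X 20 (t * u) * z)) := by
  rw [← mul_assoc, R.one 4 16 20 (by decide)]
  simp only [mul_assoc]

theorem s5_6 (u t : K) (z : G) :
    X 6 u * (X 5 t * z) = X 5 t * (X 6 u * (X 14 (t * u) * z)) := by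
  rw [← mul_assoc, R.one 5 6 14 (by decide)]
  simp only [mul_assoc]

theorem s5_13 (u t : K) (z : G) :
    X 13 u * (X 5 t * z) = X 5 t * (X 13 u * (X 19 (t * u) * z)) := by
  rw [← mul_assoc, R.one 5 13 19 (by decide)]
  simp only [mul_assoc]

theorem s5_17 (u t : K) (z : G) :
    X 17 u * (X 5 t * z) = X 5 t * (X 17 u * (X 21 (t * u) * z)) := by
  rw [← mul_assoc, R.one 5 17 21 (by decide)]
  simp only [mul_assoc]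

theorem s6_11 (u t : K) (z : G) :
    X 11 u * (X 6 t * z) = X 6 t * (X 11 u * (X 17 (t * u) * z)) := by
  rw [← mul_assoc, R.one 6 11 17 (by decide)]
  simp only [mul_assoc]

theorem s6_19 (u t : K) (z : G) :
    X 19 u * (X 6 t * z) = X 6 t * (X 19 u * (X 23 (t * u) * z)) := by
  rw [← mul_assoc, R.one 6 19 23 (by decide)]
  simp only [mul_assoc]

theorem s7_10 (u t : K) (z : G) :
    X 10 u * (X 7 t * z) = X 7 t * (X 10 u * (X 16 (t * u) * z)) := by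
  rw [← mul_assoc, R.one 7 10 16 (by decide)]
  simp only [mul_assoc]

theorem s7_18 (u t : K) (z : G) :
    X 18 u * (X 7 t * z) = X 7 t * (X 18 u * (X 22 (t * u) * z)) := by
  rw [← mul_assoc, R.one 7 18 22 (by decide)]
  simp only [mul_assoc]

theorem s8_11 (u t : K) (z : G) :
    X 11 u * (X 8 t * z) = X 8 t * (X 11 u * (X 19 (t * u) * z)) := by
  rw [← mul_assoc, R.one 8 11 19 (by decide)]
  simp only [mul_assoc]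

theorem s8_17 (u t : K) (z : G) :
    X 17 u * (X 8 t * z) = X 8 t * (X 17 u * (X 23 (t * u) * z)) := by
  rw [← mul_assoc, R.one 8 17 23 (by decide)]
  simp only [mul_assoc]

theorem s9_10 (u t : K) (z : G) :
    X 10 u * (X 9 t * z) = X 9 t * (X 10 u * (X 18 (t * u) * z)) := by
  rw [← mul_assoc, R.one 9 10 18 (by decide)]
  simp only [mul_assoc]

theorem s9_16 (u t : K) (z : G) :
    X 16 u * (X 9 t * z) = X 9 t * (X 16 u * (X 22 (t * u) * z)) := by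
  rw [← mul_assoc, R.one 9 16 22 (by decide)]
  simp only [mul_assoc]

theorem s10_15 (u t : K) (z : G) :
    X 15 u * (X 10 t * z) = X 10 t * (X 15 u * (X 20 (t * u) * z)) := by
  rw [← mul_assoc, R.one 10 15 20 (by decide)]
  simp only [mul_assoc]

theorem s11_14 (u t : K) (z : G) :
    X 14 u * (X 11 t * z) = X 11 t * (X 14 u * (X 21 (t * u) * z)) := by
  rw [← mul_assoc, R.one 11 14 21 (by decide)]
  simp only [mul_assoc]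

theorem s12_15 (u t : K) (z : G) :
    X 15 u * (X 12 t * z) = X 12 t * (X 15 u * (X 22 (t * u) * z)) := by
  rw [← mul_assoc, R.one 12 15 22 (by decide)]
  simp only [mul_assoc]

theorem s13_14 (u t : K) (z : G) :
    X 14 u * (X 13 t * z) = X 13 t * (X 14 u * (X 23 (t * u) * z)) := by
  rw [← mul_assoc, R.one 13 14 23 (by decide)]
  simp only [mul_assoc]

theorem s0_4 (u t : K) (z : G) :
    X 4 u * (X 0 t * z) = X 0 t * (X 4 u * (X 10 (t * u) * (X 14 (t * (u * u)) * z))) := by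
  rw [← mul_assoc, R.twoA 0 4 10 14 (by decide)]
  simp only [mul_assoc]

theorem s0_9 (u t : K) (z : G) :
    X 9 u * (X 0 t * z) = X 0 t * (X 9 u * (X 12 (t * u) * (X 17 (t * (u * u)) * z))) := by
  rw [← mul_assoc, R.twoA 0 9 12 17 (by decide)]
  simp only [mul_assoc]

theorem s0_15 (u t : K) (z : G) :
    X 15 u * (X 0 t * z) = X 0 t * (X 15 u * (X 16 (t * u) * (X 19 (t * (u * u)) * z))) := by
  rw [← mul_assoc, R.twoA 0 15 16 19 (by decide)]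
  simp only [mul_assoc]

theorem s2_3 (u t : K) (z : G) :
    X 3 u * (X 2 t * z) = X 2 t * (X 3 u * (X 4 (t * u) * (X 5 (t * (u * u)) * z))) := by
  rw [← mul_assoc, R.twoA 2 3 4 5 (by decide)]
  simp only [mul_assoc]

theorem s2_7 (u t : K) (z : G) :
    X 7 u * (X 2 t * z) = X 2 t * (X 7 u * (X 9 (t * u) * (X 11 (t * (u * u)) * z))) := by
  rw [← mul_assoc, R.twoA 2 7 9 11 (by decide)]
  simp only [mul_assoc]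

theorem s2_16 (u t : K) (z : G) :
    X 16 u * (X 2 t * z) = X 2 t * (X 16 u * (X 18 (t * u) * (X 23 (t * (u * u)) * z))) := by
  rw [← mul_assoc, R.twoA 2 16 18 23 (by decide)]
  simp only [mul_assoc]

theorem s5_12 (u t : K) (z : G) :
    X 12 u * (X 5 t * z) = X 5 t * (X 12 u * (X 20 (t * u) * (X 23 (t * (u * u)) * z))) := by
  rw [← mul_assoc, R.twoA 5 12 20 23 (by decide)]
  simp only [mul_assoc]

theorem s6_7 (u t : K) (z : G) :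
    X 7 u * (X 6 t * z) = X 6 t * (X 7 u * (X 12 (t * u) * (X 13 (t * (u * u)) * z))) := by
  rw [← mul_assoc, R.twoA 6 7 12 13 (by decide)]
  simp only [mul_assoc]

theorem s6_15 (u t : K) (z : G) :
    X 15 u * (X 6 t * z) = X 6 t * (X 15 u * (X 18 (t * u) * (X 21 (t * (u * u)) * z))) := by
  rw [← mul_assoc, R.twoA 6 15 18 21 (by decide)]
  simp only [mul_assoc]

theorem s8_9 (u t : K) (z : G) :
    X 9 u * (X 8 t * z) = X 8 t * (X 9 u * (X 20 (t * u) * (X 21 (t * (u * u)) * z))) := by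
  rw [← mul_assoc, R.twoA 8 9 20 21 (by decide)]
  simp only [mul_assoc]

theorem s1_5 (u t : K) (z : G) :
    X 5 u * (X 1 t * z) = X 1 t * (X 5 u * (X 15 (t * u) * (X 11 (t * t * u) * z))) := by
  rw [← mul_assoc, R.twoB 1 5 15 11 (by decide)]
  simp only [mul_assoc]

theorem s1_8 (u t : K) (z : G) :
    X 8 u * (X 1 t * z) = X 1 t * (X 8 u * (X 16 (t * u) * (X 13 (t * t * u) * z))) := by
  rw [← mul_assoc, R.twoB 1 8 16 13 (by decide)]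
  simp only [mul_assoc]

theorem s1_14 (u t : K) (z : G) :
    X 14 u * (X 1 t * z) = X 1 t * (X 14 u * (X 18 (t * u) * (X 17 (t * t * u) * z))) := by
  rw [← mul_assoc, R.twoB 1 14 18 17 (by decide)]
  simp only [mul_assoc]

theorem s3_6 (u t : K) (z : G) :
    X 6 u * (X 3 t * z) = X 3 t * (X 6 u * (X 10 (t * u) * (X 8 (t * t * u) * z))) := by
  rw [← mul_assoc, R.twoB 3 6 10 8 (by decide)]
  simp only [mul_assoc]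

theorem s3_17 (u t : K) (z : G) :
    X 17 u * (X 3 t * z) = X 3 t * (X 17 u * (X 22 (t * u) * (X 19 (t * t * u) * z))) := by
  rw [← mul_assoc, R.twoB 3 17 22 19 (by decide)]
  simp only [mul_assoc]

theorem s4_13 (u t : K) (z : G) :
    X 13 u * (X 4 t * z) = X 4 t * (X 13 u * (X 22 (t * u) * (X 21 (t * t * u) * z))) := by
  rw [← mul_assoc, R.twoB 4 13 22 21 (by decide)]
  simp only [mul_assoc]

theorem s7_14 (u t : K) (z : G) :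
    X 14 u * (X 7 t * z) = X 7 t * (X 14 u * (X 20 (t * u) * (X 19 (t * t * u) * z))) := by
  rw [← mul_assoc, R.twoB 7 14 20 19 (by decide)]
  simp only [mul_assoc]

theorem s10_11 (u t : K) (z : G) :
    X 11 u * (X 10 t * z) = X 10 t * (X 11 u * (X 22 (t * u) * (X 23 (t * t * u) * z))) := by
  rw [← mul_assoc, R.twoB 10 11 22 23 (by decide)]
  simp only [mul_assoc]

theorem step0 (x : Fin 24 → K) (t : K) :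
    W R x * X 0 t = W R ![t + x 0, x 1, x 2, x 3, x 4, x 5, x 6 + t * x 2, x 7, x 8 + t * x 5 + t * x 2 * x 3 * x 3, x 9, x 10 + t * x 4 + t * x 2 * x 3, x 11, x 12 + t * x 9, x 13 + t * x 11, x 14 + t * x 2 * x 5 + t * x 4 * x 4, x 15, x 16 + t * x 15 + t * x 4 * x 7 + t * x 2 * x 3 * x 7, x 17 + t * x 9 * x 9, x 18 + t * x 4 * x 9 + t * x 2 * x 3 * x 9, x 19 + t * x 15 * x 15 + t * x 2 * x 5 * x 7 * x 7 + t * x 4 * x 4 * x 7 * x 7, x 20 + t * x 2 * x 5 * x 7 + t * x 4 * x 4 * x 7, x 21 + t * x 2 * x 5 * x 11 + t * x 4 * x 4 * x 11, x 22 + t * x 4 * x 7 * x 9 + t * x 2 * x 3 * x 7 * x 9, x 23 + t * x 21 + t * x 2 * x 5 * x 13 + t * x 4 * x 4 * x 13 + t * t * x 2 * x 5 * x 11 + t * t * x 4 * x 4 * x 11] := by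
  rw [← mul_one (X 0 t)]
  simp (disch := decide) only [W, mul_assoc, one_mul, s0_2 R, s0_5 R, s0_11 R, s0_21 R, s1_3 R, s1_4 R, s1_10 R, s1_20 R, s2_8 R, s2_13 R, s2_19 R, s3_9 R, s3_12 R, s3_18 R, s4_7 R, s4_12 R, s4_16 R, s5_6 R, s5_13 R, s5_17 R, s6_11 R, s6_19 R, s7_10 R, s7_18 R, s8_11 R, s8_17 R, s9_10 R, s9_16 R, s10_15 R, s11_14 R, s12_15 R, s13_14 R, s0_4 R, s0_9 R, s0_15 R, s2_3 R, s2_7 R, s2_16 R, s5_12 R, s6_7 R, s6_15 R, s8_9 R, s1_5 R, s1_8 R, s1_14 R, s3_6 R, s3_17 R, s4_13 R, s7_14 R, s10_11 R, merge R, pass R, Matrix.cons_val,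
    Matrix.cons_val_zero, Matrix.cons_val_one]
  ring_nf
  all_goals simp [R.two, four R, three R]

theorem step1 (x : Fin 24 → K) (t : K) :
    W R x * X 1 t = W R ![x 0, t + x 1, x 2, x 3, x 4, x 5, x 6, x 7 + t * x 3, x 8, x 9 + t * x 4, x 10, x 11 + t * t * x 5, x 12 + t * x 10 + t * x 6 * x 3, x 13 + t * t * x 8 + t * t * x 6 * x 3 * x 3, x 14, x 15 + t * x 5 + t * x 3 * x 4, x 16 + t * x 8, x 17 + t * t * x 14 + t * t * x 6 * x 5, x 18 + t * x 14 + t * x 6 * x 5 + t * x 6 * x 3 * x 4, x 19 + t * t * x 5 * x 8, x 20 + t * x 4 * x 8 + t * x 10 * x 5 + t * x 3 * x 4 * x 10, x 21 + t * t * x 6 * x 5 * x 5 + t * t * x 4 * x 4 * x 8 + t * t * x 6 * x 3 * x 3 * x 4 * x 4, x 22 + t * x 20 + t * x 5 * x 12 + t * x 8 * x 9 + t * x 6 * x 5 * x 7 + t * x 3 * x 4 * x 12 + t * t * x 3 * x 4 * x 10 + t * x 6 * x 3 * x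 4 * x 7, x 23 + t * t * x 6 * x 5 * x 8 + t * t * x 10 * x 10 * x 5] := by
  rw [← mul_one (X 1 t)]
  simp (disch := decide) only [W, mul_assoc, one_mul, s0_2 R, s0_5 R, s0_11 R, s0_21 R, s1_3 R, s1_4 R, s1_10 R, s1_20 R, s2_8 R, s2_13 R, s2_19 R, s3_9 R, s3_12 R, s3_18 R, s4_7 R, s4_12 R, s4_16 R, s5_6 R, s5_13 R, s5_17 R, s6_11 R, s6_19 R, s7_10 R, s7_18 R, s8_11 R, s8_17 R, s9_10 R, s9_16 R, s10_15 R, s11_14 R, s12_15 R, s13_14 R, s0_4 R, s0_9 R, s0_15 R, s2_3 R, s2_7 R, s2_16 R, s5_12 R, s6_7 R, s6_15 R, s8_9 R, s1_5 R, s1_8 R, s1_14 R, s3_6 R, s3_17 R, s4_13 R, s7_14 R, s10_11 R, merge R, pass R, Matrix.cons_val,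
    Matrix.cons_val_zero, Matrix.cons_val_one]
  ring_nf
  all_goals simp [R.two, four R, three R]

theorem step2 (x : Fin 24 → K) (t : K) :
    W R x * X 2 t = W R ![x 0, x 1, t + x 2, x 3, x 4 + t * x 3, x 5 + t * x 3 * x 3, x 6, x 7, x 8, x 9 + t * x 7, x 10, x 11 + t * x 7 * x 7, x 12, x 13, x 14 + t * x 8, x 15, x 16, x 17 + t * x 13, x 18 + t * x 16, x 19 + t * x 8 * x 7 * x 7, x 20 + t * x 8 * x 7, x 21 + t * x 19 + t * x 8 * x 11 + t * t * x 8 * x 7 * x 7, x 22 + t * x 10 * x 7 * x 7, x 23 + t * x 8 * x 13 + t * x 16 * x 16 + t * x 10 * x 10 * x 7 * x 7] := by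
  rw [← mul_one (X 2 t)]
  simp (disch := decide) only [W, mul_assoc, one_mul, s0_2 R, s0_5 R, s0_11 R, s0_21 R, s1_3 R, s1_4 R, s1_10 R, s1_20 R, s2_8 R, s2_13 R, s2_19 R, s3_9 R, s3_12 R, s3_18 R, s4_7 R, s4_12 R, s4_16 R, s5_6 R, s5_13 R, s5_17 R, s6_11 R, s6_19 R, s7_10 R, s7_18 R, s8_11 R, s8_17 R, s9_10 R, s9_16 R, s10_15 R, s11_14 R, s12_15 R, s13_14 R, s0_4 R, s0_9 R, s0_15 R, s2_3 R, s2_7 R, s2_16 R, s5_12 R, s6_7 R, s6_15 R, s8_9 R, s1_5 R, s1_8 R, s1_14 R, s3_6 R, s3_17 R, s4_13 R, s7_14 R, s10_11 R, merge R, pass R, Matrix.cons_val,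
    Matrix.cons_val_zero, Matrix.cons_val_one]
  ring_nf
  all_goals simp [R.two, four R, three R]

theorem step3 (x : Fin 24 → K) (t : K) :
    W R x * X 3 t = W R ![x 0, x 1, x 2, t + x 3, x 4, x 5, x 6, x 7, x 8 + t * t * x 6, x 9, x 10 + t * x 6, x 11, x 12, x 13, x 14, x 15 + t * x 9, x 16 + t * x 12 + t * x 6 * x 7, x 17, x 18 + t * x 6 * x 9, x 19 + t * t * x 17, x 20 + t * x 18 + t * x 10 * x 9, x 21, x 22 + t * x 17 + t * x 9 * x 12 + t * x 6 * x 7 * x 9, x 23] := by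
  rw [← mul_one (X 3 t)]
  simp (disch := decide) only [W, mul_assoc, one_mul, s0_2 R, s0_5 R, s0_11 R, s0_21 R, s1_3 R, s1_4 R, s1_10 R, s1_20 R, s2_8 R, s2_13 R, s2_19 R, s3_9 R, s3_12 R, s3_18 R, s4_7 R, s4_12 R, s4_16 R, s5_6 R, s5_13 R, s5_17 R, s6_11 R, s6_19 R, s7_10 R, s7_18 R, s8_11 R, s8_17 R, s9_10 R, s9_16 R, s10_15 R, s11_14 R, s12_15 R, s13_14 R, s0_4 R, s0_9 R, s0_15 R, s2_3 R, s2_7 R, s2_16 R, s5_12 R, s6_7 R, s6_15 R, s8_9 R, s1_5 R, s1_8 R, s1_14 R, s3_6 R, s3_17 R, s4_13 R, s7_14 R, s10_11 R, merge R, pass R, Matrix.cons_val,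
    Matrix.cons_val_zero, Matrix.cons_val_one]
  ring_nf
  all_goals simp [R.two, four R, three R]

theorem step4 (x : Fin 24 → K) (t : K) :
    W R x * X 4 t = W R ![x 0, x 1, x 2, x 3, t + x 4, x 5, x 6, x 7, x 8, x 9, x 10, x 11, x 12, x 13, x 14, x 15 + t * x 7, x 16, x 17, x 18 + t * x 12, x 19, x 20 + t * x 16 + t * x 10 * x 7, x 21 + t * t * x 13, x 22 + t * x 13 + t * x 7 * x 12, x 23] := by
  rw [← mul_one (X 4 t)]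
  simp (disch := decide) only [W, mul_assoc, one_mul, s0_2 R, s0_5 R, s0_11 R, s0_21 R, s1_3 R, s1_4 R, s1_10 R, s1_20 R, s2_8 R, s2_13 R, s2_19 R, s3_9 R, s3_12 R, s3_18 R, s4_7 R, s4_12 R, s4_16 R, s5_6 R, s5_13 R, s5_17 R, s6_11 R, s6_19 R, s7_10 R, s7_18 R, s8_11 R, s8_17 R, s9_10 R, s9_16 R, s10_15 R, s11_14 R, s12_15 R, s13_14 R, s0_4 R, s0_9 R, s0_15 R, s2_3 R, s2_7 R, s2_16 R, s5_12 R, s6_7 R, s6_15 R, s8_9 R, s1_5 R, s1_8 R, s1_14 R, s3_6 R, s3_17 R, s4_13 R, s7_14 R, s10_11 R, merge R, pass R, Matrix.cons_val,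
    Matrix.cons_val_zero, Matrix.cons_val_one]
  ring_nf
  all_goals simp [R.two, four R, three R]

theorem step5 (x : Fin 24 → K) (t : K) :
    W R x * X 5 t = W R ![x 0, x 1, x 2, x 3, x 4, t + x 5, x 6, x 7, x 8, x 9, x 10, x 11, x 12, x 13, x 14 + t * x 6, x 15, x 16, x 17, x 18, x 19 + t * x 13 + t * x 6 * x 7 * x 7, x 20 + t * x 12 + t * x 6 * x 7, x 21 + t * x 17 + t * x 6 * x 11, x 22, x 23 + t * x 6 * x 13 + t * x 12 * x 12] := by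
  rw [← mul_one (X 5 t)]
  simp (disch := decide) only [W, mul_assoc, one_mul, s0_2 R, s0_5 R, s0_11 R, s0_21 R, s1_3 R, s1_4 R, s1_10 R, s1_20 R, s2_8 R, s2_13 R, s2_19 R, s3_9 R, s3_12 R, s3_18 R, s4_7 R, s4_12 R, s4_16 R, s5_6 R, s5_13 R, s5_17 R, s6_11 R, s6_19 R, s7_10 R, s7_18 R, s8_11 R, s8_17 R, s9_10 R, s9_16 R, s10_15 R, s11_14 R, s12_15 R, s13_14 R, s0_4 R, s0_9 R, s0_15 R, s2_3 R, s2_7 R, s2_16 R, s5_12 R, s6_7 R, s6_15 R, s8_9 R, s1_5 R, s1_8 R, s1_14 R, s3_6 R, s3_17 R, s4_13 R, s7_14 R, s10_11 R, merge R, pass R, Matrix.cons_val,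
    Matrix.cons_val_zero, Matrix.cons_val_one]
  ring_nf
  all_goals simp [R.two, four R, three R]

theorem step6 (x : Fin 24 → K) (t : K) :
    W R x * X 6 t = W R ![x 0, x 1, x 2, x 3, x 4, x 5, t + x 6, x 7, x 8, x 9, x 10, x 11, x 12 + t * x 7, x 13 + t * x 7 * x 7, x 14, x 15, x 16, x 17 + t * x 11, x 18 + t * x 15, x 19, x 20, x 21 + t * x 15 * x 15, x 22, x 23 + t * x 19] := by
  rw [← mul_one (X 6 t)]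
  simp (disch := decide) only [W, mul_assoc, one_mul, s0_2 R, s0_5 R, s0_11 R, s0_21 R, s1_3 R, s1_4 R, s1_10 R, s1_20 R, s2_8 R, s2_13 R, s2_19 R, s3_9 R, s3_12 R, s3_18 R, s4_7 R, s4_12 R, s4_16 R, s5_6 R, s5_13 R, s5_17 R, s6_11 R, s6_19 R, s7_10 R, s7_18 R, s8_11 R, s8_17 R, s9_10 R, s9_16 R, s10_15 R, s11_14 R, s12_15 R, s13_14 R, s0_4 R, s0_9 R, s0_15 R, s2_3 R, s2_7 R, s2_16 R, s5_12 R, s6_7 R, s6_15 R, s8_9 R, s1_5 R, s1_8 R, s1_14 R, s3_6 R, s3_17 R, s4_13 R, s7_14 R, s10_11 R, merge R, pass R, Matrix.cons_val,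
    Matrix.cons_val_zero, Matrix.cons_val_one]
  ring_nf
  all_goals simp [R.two, four R, three R]

theorem step7 (x : Fin 24 → K) (t : K) :
    W R x * X 7 t = W R ![x 0, x 1, x 2, x 3, x 4, x 5, x 6, t + x 7, x 8, x 9, x 10, x 11, x 12, x 13, x 14, x 15, x 16 + t * x 10, x 17, x 18, x 19 + t * t * x 14, x 20 + t * x 14, x 21, x 22 + t * x 18, x 23] := by
  rw [← mul_one (X 7 t)]
  simp (disch := decide) only [W, mul_assoc, one_mul, s0_2 R, s0_5 R, s0_11 R, s0_21 R, s1_3 R, s1_4 R, s1_10 R, s1_20 R, s2_8 R, s2_13 R, s2_19 R, s3_9 R, s3_12 R, s3_18 R, s4_7 R, s4_12 R, s4_16 R, s5_6 R, s5_13 R, s5_17 R, s6_11 R, s6_19 R, s7_10 R, s7_18 R, s8_11 R, s8_17 R, s9_10 R, s9_16 R, s10_15 R, s11_14 R, s12_15 R, s13_14 R, s0_4 R, s0_9 R, s0_15 R, s2_3 R, s2_7 R, s2_16 R, s5_12 R, s6_7 R, s6_15 R, s8_9 R, s1_5 R, s1_8 R,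 s1_14 R, s3_6 R, s3_17 R, s4_13 R, s7_14 R, s10_11 R, merge R, pass R, Matrix.cons_val,
    Matrix.cons_val_zero, Matrix.cons_val_one]
  ring_nf
  all_goals simp [R.two, four R, three R]

theorem step8 (x : Fin 24 → K) (t : K) :
    W R x * X 8 t = W R ![x 0, x 1, x 2, x 3, x 4, x 5, x 6, x 7, t + x 8, x 9, x 10, x 11, x 12, x 13, x 14, x 15, x 16, x 17, x 18, x 19 + t * x 11, x 20 + t * x 9, x 21 + t * x 9 * x 9, x 22, x 23 + t * x 17] := by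
  rw [← mul_one (X 8 t)]
  simp (disch := decide) only [W, mul_assoc, one_mul, s0_2 R, s0_5 R, s0_11 R, s0_21 R, s1_3 R, s1_4 R, s1_10 R, s1_20 R, s2_8 R, s2_13 R, s2_19 R, s3_9 R, s3_12 R, s3_18 R, s4_7 R, s4_12 R, s4_16 R, s5_6 R, s5_13 R, s5_17 R, s6_11 R, s6_19 R, s7_10 R, s7_18 R, s8_11 R, s8_17 R, s9_10 R, s9_16 R, s10_15 R, s11_14 R, s12_15 R, s13_14 R, s0_4 R, s0_9 R, s0_15 R, s2_3 R, s2_7 R, s2_16 R, s5_12 R, s6_7 R, s6_15 R, s8_9 R, s1_5 R, s1_8 R, s1_14 R, s3_6 R, s3_17 R, s4_13 R, s7_14 R, s10_11 R, merge R, pass R, Matrix.cons_val,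
    Matrix.cons_val_zero, Matrix.cons_val_one]
  ring_nf
  all_goals simp [R.two, four R, three R]

theorem step9 (x : Fin 24 → K) (t : K) :
    W R x * X 9 t = W R ![x 0, x 1, x 2, x 3, x 4, x 5, x 6, x 7, x 8, t + x 9, x 10, x 11, x 12, x 13, x 14, x 15, x 16, x 17, x 18 + t * x 10, x 19, x 20, x 21, x 22 + t * x 16, x 23] := by
  rw [← mul_one (X 9 t)]
  simp (disch := decide) only [W, mul_assoc, one_mul, s0_2 R, s0_5 R, s0_11 R, s0_21 R, s1_3 R, s1_4 R, s1_10 R, s1_20 R, s2_8 R, s2_13 R, s2_19 R, s3_9 R, s3_12 R, s3_18 R, s4_7 R, s4_12 R, s4_16 R, s5_6 R, s5_13 R, s5_17 R, s6_11 R, s6_19 R, s7_10 R, s7_18 R, s8_11 R, s8_17 R, s9_10 R, s9_16 R, s10_15 R, s11_14 R, s12_15 R, s13_14 R, s0_4 R, s0_9 R, s0_15 R, s2_3 R, s2_7 R, s2_16 R, s5_12 R, s6_7 R, s6_15 R, s8_9 R, s1_5 R, s1_8 R, s1_14 R, s3_6 R, s3_17 R,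 s4_13 R, s7_14 R, s10_11 R, merge R, pass R, Matrix.cons_val,
    Matrix.cons_val_zero, Matrix.cons_val_one]
  ring_nf
  all_goals simp [R.two, four R, three R]

theorem step10 (x : Fin 24 → K) (t : K) :
    W R x * X 10 t = W R ![x 0, x 1, x 2, x 3, x 4, x 5, x 6, x 7, x 8, x 9, t + x 10, x 11, x 12, x 13, x 14, x 15, x 16, x 17, x 18, x 19, x 20 + t * x 15, x 21, x 22 + t * x 11, x 23 + t * t * x 11] := by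
  rw [← mul_one (X 10 t)]
  simp (disch := decide) only [W, mul_assoc, one_mul, s0_2 R, s0_5 R, s0_11 R, s0_21 R, s1_3 R, s1_4 R, s1_10 R, s1_20 R, s2_8 R, s2_13 R, s2_19 R, s3_9 R, s3_12 R, s3_18 R, s4_7 R, s4_12 R, s4_16 R, s5_6 R, s5_13 R, s5_17 R, s6_11 R, s6_19 R, s7_10 R, s7_18 R, s8_11 R, s8_17 R, s9_10 R, s9_16 R, s10_15 R, s11_14 R, s12_15 R, s13_14 R, s0_4 R, s0_9 R, s0_15 R, s2_3 R, s2_7 R, s2_16 R, s5_12 R, s6_7 R, s6_15 R, s8_9 R, s1_5 R, s1_8 R, s1_14 R, s3_6 R, s3_17 R, s4_13 R, s7_14 R, s10_11 R, merge R, pass R, Matrix.cons_val,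
    Matrix.cons_val_zero, Matrix.cons_val_one]
  ring_nf
  all_goals simp [R.two, four R, three R]

theorem step11 (x : Fin 24 → K) (t : K) :
    W R x * X 11 t = W R ![x 0, x 1, x 2, x 3, x 4, x 5, x 6, x 7, x 8, x 9, x 10, t + x 11, x 12, x 13, x 14, x 15, x 16, x 17, x 18, x 19, x 20, x 21 + t * x 14, x 22, x 23] := by
  rw [← mul_one (X 11 t)]
  simp (disch := decide) only [W, mul_assoc, one_mul, s0_2 R, s0_5 R, s0_11 R, s0_21 R, s1_3 R, s1_4 R, s1_10 R, s1_20 R, s2_8 R, s2_13 R, s2_19 R, s3_9 R, s3_12 R, s3_18 R, s4_7 R, s4_12 R, s4_16 R, s5_6 R, s5_13 R, s5_17 R, s6_11 R, s6_19 R, s7_10 R, s7_18 R, s8_11 R, s8_17 R, s9_10 R, s9_16 R, s10_15 R, s11_14 R, s12_15 R, s13_14 R, s0_4 R, s0_9 R, s0_15 R, s2_3 R, s2_7 R, s2_16 R, s5_12 R, s6_7 R, s6_15 R, s8_9 R, s1_5 R, s1_8 R, s1_14 R, s3_6 R, s3_17 R, s4_13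 R, s7_14 R, s10_11 R, merge R, pass R, Matrix.cons_val,
    Matrix.cons_val_zero, Matrix.cons_val_one]
  ring_nf
  all_goals simp [R.two, four R, three R]

theorem step12 (x : Fin 24 → K) (t : K) :
    W R x * X 12 t = W R ![x 0, x 1, x 2, x 3, x 4, x 5, x 6, x 7, x 8, x 9, x 10, x 11, t + x 12, x 13, x 14, x 15, x 16, x 17, x 18, x 19, x 20, x 21, x 22 + t * x 15, x 23] := by
  rw [← mul_one (X 12 t)]
  simp (disch := decide) only [W, mul_assoc, one_mul, s0_2 R, s0_5 R, s0_11 R, s0_21 R, s1_3 R, s1_4 R, s1_10 R, s1_20 R, s2_8 R, s2_13 R, s2_19 R, s3_9 R, s3_12 R, s3_18 R, s4_7 R, s4_12 R, s4_16 R, s5_6 R, s5_13 R, s5_17 R, s6_11 R, s6_19 R, s7_10 R, s7_18 R, s8_11 R, s8_17 R, s9_10 R, s9_16 R, s10_15 R, s11_14 R, s12_15 R, s13_14 R, s0_4 R, s0_9 R, s0_15 R, s2_3 R, s2_7 R, s2_16 R, s5_12 R, s6_7 R, s6_15 R,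 s8_9 R, s1_5 R, s1_8 R, s1_14 R, s3_6 R, s3_17 R, s4_13 R, s7_14 R, s10_11 R, merge R, pass R, Matrix.cons_val,
    Matrix.cons_val_zero, Matrix.cons_val_one]
  ring_nf
  all_goals simp [R.two, four R, three R]

theorem step13 (x : Fin 24 → K) (t : K) :
    W R x * X 13 t = W R ![x 0, x 1, x 2, x 3, x 4, x 5, x 6, x 7, x 8, x 9, x 10, x 11, x 12, t + x 13, x 14, x 15, x 16, x 17, x 18, x 19, x 20, x 21, x 22, x 23 + t * x 14] := by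
  rw [← mul_one (X 13 t)]
  simp (disch := decide) only [W, mul_assoc, one_mul, s0_2 R, s0_5 R, s0_11 R, s0_21 R, s1_3 R, s1_4 R, s1_10 R, s1_20 R, s2_8 R, s2_13 R, s2_19 R, s3_9 R, s3_12 R, s3_18 R, s4_7 R, s4_12 R, s4_16 R, s5_6 R, s5_13 R, s5_17 R, s6_11 R, s6_19 R, s7_10 R, s7_18 R, s8_11 R, s8_17 R, s9_10 R, s9_16 R, s10_15 R, s11_14 R, s12_15 R, s13_14 R, s0_4 R, s0_9 R, s0_15 R, s2_3 R, s2_7 R, s2_16 R, s5_12 R, s6_7 R, s6_15 R, s8_9 R, s1_5 R, s1_8 R, s1_14 R, s3_6 R, s3_17 R, s4_13 R, s7_14 R, s10_11 R, merge R, pass R, Matrix.cons_val,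
    Matrix.cons_val_zero, Matrix.cons_val_one]
  ring_nf
  all_goals simp [R.two, four R, three R]

theorem step14 (x : Fin 24 → K) (t : K) :
    W R x * X 14 t = W R ![x 0, x 1, x 2, x 3, x 4, x 5, x 6, x 7, x 8, x 9, x 10, x 11, x 12, x 13, t + x 14, x 15, x 16, x 17, x 18, x 19, x 20, x 21, x 22, x 23] := by
  rw [← mul_one (X 14 t)]
  simp (disch := decide) only [W, mul_assoc, one_mul, s0_2 R, s0_5 R, s0_11 R, s0_21 R, s1_3 R, s1_4 R, s1_10 R, s1_20 R, s2_8 R, s2_13 R, s2_19 R, s3_9 R, s3_12 R, s3_18 R, s4_7 R, s4_12 R, s4_16 R, s5_6 R, s5_13 R, s5_17 R, s6_11 R, s6_19 R, s7_10 R, s7_18 R, s8_11 R, s8_17 R, s9_10 R, s9_16 R, s10_15 R, s11_14 R, s12_15 R, s13_14 R, s0_4 R, s0_9 R, s0_15 R, s2_3 R, s2_7 R, s2_16 R, s5_12 R, s6_7 R, s6_15 R, s8_9 R, s1_5 R, s1_8 R, s1_14 R, s3_6 R, s3_17 R, s4_13 R, s7_14 R,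 s10_11 R, merge R, pass R, Matrix.cons_val,
    Matrix.cons_val_zero, Matrix.cons_val_one]
  ring_nf
  all_goals simp [R.two, four R, three R]

theorem step15 (x : Fin 24 → K) (t : K) :
    W R x * X 15 t = W R ![x 0, x 1, x 2, x 3, x 4, x 5, x 6, x 7, x 8, x 9, x 10, x 11, x 12, x 13, x 14, t + x 15, x 16, x 17, x 18, x 19, x 20, x 21, x 22, x 23] := by
  rw [← mul_one (X 15 t)]
  simp (disch := decide) only [W, mul_assoc, one_mul, s0_2 R, s0_5 R, s0_11 R, s0_21 R, s1_3 R, s1_4 R, s1_10 R, s1_20 R, s2_8 R, s2_13 R, s2_19 R, s3_9 R, s3_12 R, s3_18 R, s4_7 R, s4_12 R, s4_16 R, s5_6 R, s5_13 R, s5_17 R, s6_11 R, s6_19 R, s7_10 R, s7_18 R, s8_11 R, s8_17 R, s9_10 R, s9_16 R, s10_15 R, s11_14 R, s12_15 R, s13_14 R, s0_4 R, s0_9 R, s0_15 R, s2_3 R, s2_7 R, s2_16 R, s5_12 R, s6_7 R, s6_15 R, s8_9 R, s1_5 R, s1_8 R,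 s1_14 R, s3_6 R, s3_17 R, s4_13 R, s7_14 R, s10_11 R, merge R, pass R, Matrix.cons_val,
    Matrix.cons_val_zero, Matrix.cons_val_one]
  ring_nf
  all_goals simp [R.two, four R, three R]

theorem step16 (x : Fin 24 → K) (t : K) :
    W R x * X 16 t = W R ![x 0, x 1, x 2, x 3, x 4, x 5, x 6, x 7, x 8, x 9, x 10, x 11, x 12, x 13, x 14, x 15, t + x 16, x 17, x 18, x 19, x 20, x 21, x 22, x 23] := by
  rw [← mul_one (X 16 t)]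
  simp (disch := decide) only [W, mul_assoc, one_mul, s0_2 R, s0_5 R, s0_11 R, s0_21 R, s1_3 R, s1_4 R, s1_10 R, s1_20 R, s2_8 R, s2_13 R, s2_19 R, s3_9 R, s3_12 R, s3_18 R, s4_7 R, s4_12 R, s4_16 R, s5_6 R, s5_13 R, s5_17 R, s6_11 R, s6_19 R, s7_10 R, s7_18 R, s8_11 R, s8_17 R, s9_10 R, s9_16 R, s10_15 R, s11_14 R, s12_15 R, s13_14 R, s0_4 R, s0_9 R, s0_15 R, s2_3 R, s2_7 R, s2_16 R, s5_12 R, s6_7 R, s6_15 R, s8_9 R, s1_5 R, s1_8 R, s1_14 R, s3_6 R, s3_17 R, s4_13 R, s7_14 R, s10_11 R, merge R, pass R, Matrix.cons_val,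
    Matrix.cons_val_zero, Matrix.cons_val_one]
  ring_nf
  all_goals simp [R.two, four R, three R]

theorem step17 (x : Fin 24 → K) (t : K) :
    W R x * X 17 t = W R ![x 0, x 1, x 2, x 3, x 4, x 5, x 6, x 7, x 8, x 9, x 10, x 11, x 12, x 13, x 14, x 15, x 16, t + x 17, x 18, x 19, x 20, x 21, x 22, x 23] := by
  rw [← mul_one (X 17 t)]
  simp (disch := decide) only [W, mul_assoc, one_mul, s0_2 R, s0_5 R, s0_11 R, s0_21 R, s1_3 R, s1_4 R, s1_10 R, s1_20 R, s2_8 R, s2_13 R, s2_19 R, s3_9 R, s3_12 R, s3_18 R, s4_7 R, s4_12 R, s4_16 R, s5_6 R, s5_13 R, s5_17 R, s6_11 R, s6_19 R, s7_10 R, s7_18 R, s8_11 R, s8_17 R, s9_10 R, s9_16 R, s10_15 R, s11_14 R, s12_15 R, s13_14 R, s0_4 R, s0_9 R, s0_15 R, s2_3 R, s2_7 R, s2_16 R, s5_12 R, s6_7 R, s6_15 R, s8_9 R, s1_5 R, s1_8 R, s1_14 R, s3_6 R, s3_17 R, s4_13 R, s7_14 R,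 s10_11 R, merge R, pass R, Matrix.cons_val,
    Matrix.cons_val_zero, Matrix.cons_val_one]
  ring_nf
  all_goals simp [R.two, four R, three R]

theorem step18 (x : Fin 24 → K) (t : K) :
    W R x * X 18 t = W R ![x 0, x 1, x 2, x 3, x 4, x 5, x 6, x 7, x 8, x 9, x 10, x 11, x 12, x 13, x 14, x 15, x 16, x 17, t + x 18, x 19, x 20, x 21, x 22, x 23] := by
  rw [← mul_one (X 18 t)]
  simp (disch := decide) only [W, mul_assoc, one_mul, s0_2 R, s0_5 R, s0_11 R, s0_21 R, s1_3 R, s1_4 R, s1_10 R, s1_20 R, s2_8 R, s2_13 R, s2_19 R, s3_9 R, s3_12 R, s3_18 R, s4_7 R, s4_12 R, s4_16 R, s5_6 R, s5_13 R, s5_17 R, s6_11 R, s6_19 R, s7_10 R, s7_18 R, s8_11 R, s8_17 R, s9_10 R, s9_16 R, s10_15 R, s11_14 R, s12_15 R, s13_14 R, s0_4 R, s0_9 R, s0_15 R, s2_3 R, s2_7 R, s2_16 R, s5_12 R, s6_7 R, s6_15 R, s8_9 R, s1_5 R, s1_8 R,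 s1_14 R, s3_6 R, s3_17 R, s4_13 R, s7_14 R, s10_11 R, merge R, pass R, Matrix.cons_val,
    Matrix.cons_val_zero, Matrix.cons_val_one]
  ring_nf
  all_goals simp [R.two, four R, three R]

theorem step19 (x : Fin 24 → K) (t : K) :
    W R x * X 19 t = W R ![x 0, x 1, x 2, x 3, x 4, x 5, x 6, x 7, x 8, x 9, x 10, x 11, x 12, x 13, x 14, x 15, x 16, x 17, x 18, t + x 19, x 20, x 21, x 22, x 23] := by
  rw [← mul_one (X 19 t)]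
  simp (disch := decide) only [W, mul_assoc, one_mul, s0_2 R, s0_5 R, s0_11 R, s0_21 R, s1_3 R, s1_4 R, s1_10 R, s1_20 R, s2_8 R, s2_13 R, s2_19 R, s3_9 R, s3_12 R, s3_18 R, s4_7 R, s4_12 R, s4_16 R, s5_6 R, s5_13 R, s5_17 R, s6_11 R, s6_19 R, s7_10 R, s7_18 R, s8_11 R, s8_17 R, s9_10 R, s9_16 R, s10_15 R, s11_14 R, s12_15 R, s13_14 R, s0_4 R, s0_9 R, s0_15 R, s2_3 R, s2_7 R, s2_16 R, s5_12 R, s6_7 R, s6_15 R, s8_9 R, s1_5 R, s1_8 R, s1_14 R, s3_6 R, s3_17 R, s4_13 R, s7_14 R, s10_11 R, merge R, pass R, Matrix.cons_val,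
    Matrix.cons_val_zero, Matrix.cons_val_one]
  ring_nf
  all_goals simp [R.two, four R, three R]

theorem step20 (x : Fin 24 → K) (t : K) :
    W R x * X 20 t = W R ![x 0, x 1, x 2, x 3, x 4, x 5, x 6, x 7, x 8, x 9, x 10, x 11, x 12, x 13, x 14, x 15, x 16, x 17, x 18, x 19, t + x 20, x 21, x 22, x 23] := by
  rw [← mul_one (X 20 t)]
  simp (disch := decide) only [W, mul_assoc, one_mul, s0_2 R, s0_5 R, s0_11 R, s0_21 R, s1_3 R, s1_4 R, s1_10 R, s1_20 R, s2_8 R, s2_13 R, s2_19 R, s3_9 R, s3_12 R, s3_18 R, s4_7 R, s4_12 R, s4_16 R, s5_6 R, s5_13 R, s5_17 R, s6_11 R, s6_19 R, s7_10 R, s7_18 R, s8_11 R, s8_17 R, s9_10 R, s9_16 R, s10_15 R, s11_14 R, s12_15 R, s13_14 R, s0_4 R, s0_9 R, s0_15 R, s2_3 R, s2_7 R, s2_16 R, s5_12 R, s6_7 R, s6_15 R, s8_9 R, s1_5 R, s1_8 R, s1_14 R, s3_6 R, s3_17 R, s4_13 R, s7_14 R,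 s10_11 R, merge R, pass R, Matrix.cons_val,
    Matrix.cons_val_zero, Matrix.cons_val_one]
  ring_nf
  all_goals simp [R.two, four R, three R]

theorem step21 (x : Fin 24 → K) (t : K) :
    W R x * X 21 t = W R ![x 0, x 1, x 2, x 3, x 4, x 5, x 6, x 7, x 8, x 9, x 10, x 11, x 12, x 13, x 14, x 15, x 16, x 17, x 18, x 19, x 20, t + x 21, x 22, x 23] := by
  rw [← mul_one (X 21 t)]
  simp (disch := decide) only [W, mul_assoc, one_mul, s0_2 R, s0_5 R, s0_11 R, s0_21 R, s1_3 R, s1_4 R, s1_10 R, s1_20 R, s2_8 R, s2_13 R, s2_19 R, s3_9 R, s3_12 R, s3_18 R, s4_7 R, s4_12 R, s4_16 R, s5_6 R, s5_13 R, s5_17 R, s6_11 R, s6_19 R, s7_10 R, s7_18 R, s8_11 R, s8_17 R, s9_10 R, s9_16 R, s10_15 R, s11_14 R, s12_15 R, s13_14 R, s0_4 R, s0_9 R, s0_15 R, s2_3 R, s2_7 R, s2_16 R, s5_12 R, s6_7 R, s6_15 R, s8_9 R, s1_5 R, s1_8 R,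 s1_14 R, s3_6 R, s3_17 R, s4_13 R, s7_14 R, s10_11 R, merge R, pass R, Matrix.cons_val,
    Matrix.cons_val_zero, Matrix.cons_val_one]
  ring_nf
  all_goals simp [R.two, four R, three R]

theorem step22 (x : Fin 24 → K) (t : K) :
    W R x * X 22 t = W R ![x 0, x 1, x 2, x 3, x 4, x 5, x 6, x 7, x 8, x 9, x 10, x 11, x 12, x 13, x 14, x 15, x 16, x 17, x 18, x 19, x 20, x 21, t + x 22, x 23] := by
  rw [← mul_one (X 22 t)]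
  simp (disch := decide) only [W, mul_assoc, one_mul, s0_2 R, s0_5 R, s0_11 R, s0_21 R, s1_3 R, s1_4 R, s1_10 R, s1_20 R, s2_8 R, s2_13 R, s2_19 R, s3_9 R, s3_12 R, s3_18 R, s4_7 R, s4_12 R, s4_16 R, s5_6 R, s5_13 R, s5_17 R, s6_11 R, s6_19 R, s7_10 R, s7_18 R, s8_11 R, s8_17 R, s9_10 R, s9_16 R, s10_15 R, s11_14 R, s12_15 R, s13_14 R, s0_4 R, s0_9 R, s0_15 R, s2_3 R, s2_7 R, s2_16 R, s5_12 R, s6_7 R, s6_15 R, s8_9 R, s1_5 R, s1_8 R, s1_14 R, s3_6 R, s3_17 R, s4_13 R, s7_14 R, s10_11 R, merge R, pass R, Matrix.cons_val,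
    Matrix.cons_val_zero, Matrix.cons_val_one]
  ring_nf
  all_goals simp [R.two, four R, three R]

theorem step23 (x : Fin 24 → K) (t : K) :
    W R x * X 23 t = W R ![x 0, x 1, x 2, x 3, x 4, x 5, x 6, x 7, x 8, x 9, x 10, x 11, x 12, x 13, x 14, x 15, x 16, x 17, x 18, x 19, x 20, x 21, x 22, t + x 23] := by
  rw [← mul_one (X 23 t)]
  simp (disch := decide) only [W, mul_assoc, one_mul, s0_2 R, s0_5 R, s0_11 R, s0_21 R, s1_3 R, s1_4 R, s1_10 R, s1_20 R, s2_8 R, s2_13 R, s2_19 R, s3_9 R, s3_12 R, s3_18 R, s4_7 R, s4_12 R, s4_16 R, s5_6 R, s5_13 R, s5_17 R, s6_11 R, s6_19 R, s7_10 R, s7_18 R, s8_11 R, s8_17 R, s9_10 R, s9_16 R, s10_15 R, s11_14 R, s12_15 R, s13_14 R, s0_4 R, s0_9 R, s0_15 R, s2_3 R, s2_7 R, s2_16 R, s5_12 R, s6_7 R, s6_15 R, s8_9 R, s1_5 R, s1_8 R, s1_14 R, s3_6 R, s3_17 R, s4_13 R, s7_14 R,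 s10_11 R, merge R, pass R, Matrix.cons_val,
    Matrix.cons_val_zero, Matrix.cons_val_one]
  ring_nf
  all_goals simp [R.two, four R, three R]

/-- The product of two normal forms. -/
theorem W_mul (x y : Fin 24 → K) : W R x * W R y = W R (mv x y) := by
  conv_lhs => arg 2; simp only [W]
  simp only [← mul_assoc, mul_one, step0 R, step1 R, step2 R, step3 R, step4 R, step5 R, step6 R, step7 R, step8 R, step9 R, step10 R, step11 R, step12 R, step13 R, step14 R, step15 R, step16 R, step17 R, step18 R, step19 R, step20 R, step21 R, step22 R, step23 R, Matrix.cons_val,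
    Matrix.cons_val_zero, Matrix.cons_val_one]
  congr 1
  funext i
  fin_cases i <;> simp [mv] <;> ring_nf
  all_goals simp [R.two, four R, three R, five R, six R, seven R, eight R, nine R, ten R]

omit R in
theorem mv_0 (x y : Fin 24 → K) : mv x y 0 =
    x 0 + y 0 := rfl

omit R in
theorem mv_1 (x y : Fin 24 → K) : mv x y 1 =
    x 1 + y 1 := rfl

omit R in
theorem mv_2 (x y : Fin 24 → K) : mv x y 2 =
    x 2 + y 2 := rfl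

omit R in
theorem mv_3 (x y : Fin 24 → K) : mv x y 3 =
    x 3 + y 3 := rfl

omit R in
theorem mv_4 (x y : Fin 24 → K) : mv x y 4 =
    x 4 + y 4 + x 3 * y 2 := rfl

omit R in
theorem mv_5 (x y : Fin 24 → K) : mv x y 5 =
    x 5 + y 5 + x 3 * x 3 * y 2 := rfl

omit R in
theorem mv_6 (x y : Fin 24 → K) : mv x y 6 =
    x 6 + y 6 + x 2 * y 0 := rfl

omit R in
theorem mv_7 (x y : Fin 24 → K) : mv x y 7 =
    x 7 + y 7 + x 3 * y 1 := rfl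

omit R in
theorem mv_8 (x y : Fin 24 → K) : mv x y 8 =
    x 8 + y 8 + x 5 * y 0 + x 6 * y 3 * y 3 + x 2 * x 3 * x 3 * y 0 + x 2 * y 0 * y 3 * y 3 := rfl

omit R in
theorem mv_9 (x y : Fin 24 → K) : mv x y 9 =
    x 9 + y 9 + x 4 * y 1 + x 7 * y 2 + x 3 * y 2 * y 1 := rfl

omit R in
theorem mv_10 (x y : Fin 24 → K) : mv x y 10 =
    x 10 + y 10 + x 6 * y 3 + x 4 * y 0 + x 2 * x 3 * y 0 + x 2 * y 0 * y 3 := rfl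

omit R in
theorem mv_11 (x y : Fin 24 → K) : mv x y 11 =
    x 11 + y 11 + x 5 * y 1 * y 1 + x 7 * x 7 * y 2 + x 3 * x 3 * y 2 * y 1 * y 1 := rfl

omit R in
theorem mv_12 (x y : Fin 24 → K) : mv x y 12 =
    x 12 + y 12 + x 10 * y 1 + x 7 * y 6 + x 9 * y 0 + x 6 * x 3 * y 1 + x 3 * y 6 * y 1 + x 4 * y 0 * y 1 := rfl

omit R in
theorem mv_13 (x y : Fin 24 → K) : mv x y 13 =
    x 13 + y 13 + x 11 * y 0 + x 8 * y 1 * y 1 + x 7 * x 7 * y 6 + x 5 * y 0 * y 1 * y 1 + x 6 * x 3 * x 3 * y 1 * y 1 + x 3 * x 3 * y 6 * y 1 * y 1 := rfl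

omit R in
theorem mv_14 (x y : Fin 24 → K) : mv x y 14 =
    x 14 + y 14 + x 6 * y 5 + x 8 * y 2 + x 2 * x 5 * y 0 + x 2 * y 0 * y 5 + x 4 * x 4 * y 0 + x 5 * y 0 * y 2 + x 2 * x 3 * x 3 * y 0 * y 2 := rfl

omit R in
theorem mv_15 (x y : Fin 24 → K) : mv x y 15 =
    x 15 + y 15 + x 5 * y 1 + x 7 * y 4 + x 9 * y 3 + x 3 * x 4 * y 1 + x 3 * y 4 * y 1 + x 4 * y 3 * y 1 + x 7 * y 2 * y 3 + x 3 * y 2 * y 3 * y 1 := rfl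

omit R in
theorem mv_16 (x y : Fin 24 → K) : mv x y 16 =
    x 16 + y 16 + x 10 * y 7 + x 8 * y 1 + x 12 * y 3 + x 15 * y 0 + x 6 * x 7 * y 3 + x 6 * y 3 * y 7 + x 4 * x 7 * y 0 + x 4 * y 0 * y 7 + x 10 * y 3 * y 1 + x 5 * y 0 * y 1 + x 9 * y 0 * y 3 + x 2 * x 3 * x 7 * y 0 + x 2 * x 3 * y 0 * y 7 + x 2 * x 7 * y 0 * y 3 + x 2 * y 0 * y 3 * y 7 + x 4 * y 0 * y 3 * y 1 + x 2 * x 3 * x 3 * y 0 * y 1 + x 2 * x 3 * y 0 * y 3 * y 1 := rfl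

omit R in
theorem mv_17 (x y : Fin 24 → K) : mv x y 17 =
    x 17 + y 17 + x 11 * y 6 + x 13 * y 2 + x 14 * y 1 * y 1 + x 9 * x 9 * y 0 + x 11 * y 0 * y 2 + x 6 * x 5 * y 1 * y 1 + x 5 * y 6 * y 1 * y 1 + x 8 * y 2 * y 1 * y 1 + x 7 * x 7 * y 2 * y 6 + x 4 * x 4 * y 0 * y 1 * y 1 + x 5 * y 0 * y 2 * y 1 * y 1 + x 6 * x 3 * x 3 * y 2 * y 1 * y 1 + x 3 * x 3 * y 2 * y 6 * y 1 * y 1 := rfl

omit R in
theorem mv_18 (x y : Fin 24 → K) : mv x y 18 =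
    x 18 + y 18 + x 10 * y 9 + x 14 * y 1 + x 12 * y 4 + x 15 * y 6 + x 16 * y 2 + x 6 * x 5 * y 1 + x 6 * x 9 * y 3 + x 6 * y 3 * y 9 + x 4 * x 9 * y 0 + x 4 * y 0 * y 9 + x 10 * y 4 * y 1 + x 5 * y 6 * y 1 + x 8 * y 2 * y 1 + x 7 * y 6 * y 4 + x 9 * y 0 * y 4 + x 9 * y 6 * y 3 + x 15 * y 0 * y 2 + x 2 * x 3 * x 9 * y 0 + x 2 * x 3 * y 0 * y 9 + x 2 * x 9 * y 0 * y 3 + x 2 * y 0 * y 3 * y 9 + x 6 * x 3 * x 4 * y 1 + x 6 * x 3 * y 4 * y 1 + x 6 * x 4 * y 3 * y 1 + x 6 * x 7 * y 2 * y 3 + x 3 * x 4 * y 6 * y 1 + x 3 * y 6 * y 4 * y 1 + x 4 * x 4 * y 0 * y 1 + x 4 * x 7 * y 0 * y 2 + x 4 * y 0 * y 4 * y 1 + x 4 * y 6 * y 3 * y 1 + x 5 * y 0 * y 2 * y 1 + x 7 * y 2 * y 6 * y 3 + x 2 * x 3 * x 4 * y 0 * y 1 + x 2 * x 3 * x 7 * y 0 * y 2 + x 2 * x 4 * y 0 * y 3 * y 1 + x 2 * x 7 * y 0 * y 2 * y 3 + x 6 * x 3 * y 2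 * y 3 * y 1 + x 3 * y 2 * y 6 * y 3 * y 1 + x 2 * x 3 * x 3 * y 0 * y 2 * y 1 + x 2 * x 3 * y 0 * y 2 * y 3 * y 1 := rfl

omit R in
theorem mv_19 (x y : Fin 24 → K) : mv x y 19 =
    x 19 + y 19 + x 11 * y 8 + x 13 * y 5 + x 14 * y 7 * y 7 + x 15 * x 15 * y 0 + x 11 * y 0 * y 5 + x 17 * y 3 * y 3 + x 6 * x 7 * x 7 * y 5 + x 6 * y 5 * y 7 * y 7 + x 5 * x 8 * y 1 * y 1 + x 5 * y 8 * y 1 * y 1 + x 8 * x 7 * x 7 * y 2 + x 8 * y 2 * y 7 * y 7 + x 8 * y 5 * y 1 * y 1 + x 7 * x 7 * y 2 * y 8 + x 13 * y 2 * y 3 * y 3 + x 2 * x 5 * x 7 * x 7 * y 0 + x 2 * x 5 * y 0 * y 7 * y 7 + x 2 * x 7 * x 7 * y 0 * y 5 + x 2 * y 0 * y 5 * y 7 * y 7 + x 4 * x 4 * x 7 * x 7 * y 0 + x 4 * x 4 * y 0 * y 7 * y 7 + x 5 * x 5 * y 0 * y 1 * y 1 + x 5 * x 7 * x 7 * y 0 * y 2 + x 5 * y 0 * y 2 * y 7 * y 7 + x 5 * y 0 * y 5 * y 1 * y 1 + x 14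 * y 3 * y 3 * y 1 * y 1 + x 9 * x 9 * y 0 * y 3 * y 3 + x 11 * y 0 * y 2 * y 3 * y 3 + x 6 * x 5 * y 3 * y 3 * y 1 * y 1 + x 3 * x 3 * x 8 * y 2 * y 1 * y 1 + x 3 * x 3 * y 2 * y 8 * y 1 * y 1 + x 8 * y 2 * y 3 * y 3 * y 1 * y 1 + x 2 * x 3 * x 3 * x 5 * y 0 * y 1 * y 1 + x 2 * x 3 * x 3 * x 7 * x 7 * y 0 * y 2 + x 2 * x 3 * x 3 * y 0 * y 2 * y 7 * y 7 + x 2 * x 3 * x 3 * y 0 * y 5 * y 1 * y 1 + x 3 * x 3 * x 5 * y 0 * y 2 * y 1 * y 1 + x 4 * x 4 * y 0 * y 3 * y 3 * y 1 * y 1 + x 5 * y 0 * y 2 * y 3 * y 3 * y 1 * y 1 + x 6 * x 3 * x 3 * y 2 * y 3 * y 3 * y 1 * y 1 + x 2 * x 3 * x 3 * x 3 * x 3 * y 0 * y 2 * y 1 * y 1 := rfl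

omit R in
theorem mv_20 (x y : Fin 24 → K) : mv x y 20 =
    x 20 + y 20 + x 14 * y 7 + x 9 * y 8 + x 12 * y 5 + x 15 * y 10 + x 16 * y 4 + x 18 * y 3 + x 6 * x 7 * y 5 + x 6 * y 5 * y 7 + x 4 * x 8 * y 1 + x 4 * y 8 * y 1 + x 10 * x 5 * y 1 + x 10 * x 7 * y 4 + x 10 * x 9 * y 3 + x 10 * y 5 * y 1 + x 5 * y 10 * y 1 + x 8 * x 7 * y 2 + x 8 * y 2 * y 7 + x 8 * y 4 * y 1 + x 14 * y 3 * y 1 + x 7 * y 2 * y 8 + x 7 * y 4 * y 10 + x 9 * y 0 * y 5 + x 9 * y 3 * y 10 + x 12 * y 3 * y 4 + x 15 * y 0 * y 4 + x 16 * y 2 * y 3 + x 2 * x 5 * x 7 * y 0 + x 2 * x 5 * y 0 * y 7 + x 2 * x 7 * y 0 * y 5 + x 2 * y 0 * y 5 * y 7 + x 6 * x 5 * y 3 * y 1 + x 3 * x 4 * x 10 * y 1 + x 3 * x 4 * y 10 * y 1 + x 3 * x 10 * y 4 * y 1 + x 3 * x 8 * y 2 * y 1 + x 3 * y 2 * y 8 * y 1 + x 3 * y 4 * y 10 * y 1 + x 4 * x 4 * x 7 * y 0 + x 4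 * x 4 * y 0 * y 7 + x 4 * x 10 * y 3 * y 1 + x 4 * y 0 * y 5 * y 1 + x 4 * y 3 * y 10 * y 1 + x 10 * x 7 * y 2 * y 3 + x 10 * y 3 * y 4 * y 1 + x 5 * x 7 * y 0 * y 2 + x 5 * y 0 * y 2 * y 7 + x 5 * y 0 * y 4 * y 1 + x 8 * y 2 * y 3 * y 1 + x 7 * y 2 * y 3 * y 10 + x 9 * y 0 * y 3 * y 4 + x 15 * y 0 * y 2 * y 3 + x 2 * x 3 * x 5 * y 0 * y 1 + x 2 * x 3 * y 0 * y 5 * y 1 + x 6 * x 3 * x 4 * y 3 * y 1 + x 6 * x 3 * y 3 * y 4 * y 1 + x 3 * x 4 * x 4 * y 0 * y 1 + x 3 * x 4 * y 0 * y 4 * y 1 + x 3 * x 10 * y 2 * y 3 * y 1 + x 3 * x 5 * y 0 * y 2 * y 1 + x 3 * y 2 * y 3 * y 10 * y 1 + x 4 * y 0 * y 3 * y 4 * y 1 + x 5 * y 0 * y 2 * y 3 * y 1 + x 2 * x 3 * x 3 * x 7 * y 0 * y 2 + x 2 * x 3 * x 3 * y 0 * y 2 * y 7 + x 3 * x 4 * y 0 * y 2 * y 3 * y 1 + x 2 * x 3 * x 3 * x 3 * y 0 * y 2 * y 1 := rfl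

omit R in
theorem mv_21 (x y : Fin 24 → K) : mv x y 21 =
    x 21 + y 21 + x 14 * y 11 + x 17 * y 5 + x 19 * y 2 + x 6 * x 11 * y 5 + x 6 * y 5 * y 11 + x 8 * x 11 * y 2 + x 8 * y 2 * y 11 + x 9 * x 9 * y 8 + x 15 * x 15 * y 6 + x 13 * y 2 * y 5 + x 13 * y 4 * y 4 + x 2 * x 5 * x 11 * y 0 + x 2 * x 5 * y 0 * y 11 + x 2 * x 11 * y 0 * y 5 + x 2 * y 0 * y 5 * y 11 + x 4 * x 4 * x 11 * y 0 + x 4 * x 4 * y 0 * y 11 + x 5 * x 11 * y 0 * y 2 + x 5 * y 0 * y 2 * y 11 + x 14 * y 5 * y 1 * y 1 + x 9 * x 9 * y 0 * y 5 + x 15 * x 15 * y 0 * y 2 + x 11 * y 0 * y 2 * y 5 + x 11 * y 0 * y 4 * y 4 + x 6 * x 5 * x 5 * y 1 * y 1 + x 6 * x 7 * x 7 * y 2 * y 5 + x 4 * x 4 * x 8 * y 1 * y 1 + x 4 * x 4 * y 8 * y 1 * y 1 + x 5 * x 5 * y 6 * y 1 * y 1 + x 8 * x 7 * x 7 * y 2 * y 2 + x 8 * y 2 * y 5 * y 1 * y 1 + x 8 * y 4 * y 4 *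 y 1 * y 1 + x 7 * x 7 * y 2 * y 2 * y 8 + x 7 * x 7 * y 6 * y 4 * y 4 + x 9 * x 9 * y 6 * y 3 * y 3 + x 2 * x 3 * x 3 * x 11 * y 0 * y 2 + x 2 * x 3 * x 3 * y 0 * y 2 * y 11 + x 2 * x 5 * x 5 * y 0 * y 1 * y 1 + x 2 * x 5 * x 7 * x 7 * y 0 * y 2 + x 2 * x 5 * y 0 * y 5 * y 1 * y 1 + x 2 * x 7 * x 7 * y 0 * y 2 * y 5 + x 4 * x 4 * x 5 * y 0 * y 1 * y 1 + x 4 * x 4 * x 7 * x 7 * y 0 * y 2 + x 4 * x 4 * y 0 * y 5 * y 1 * y 1 + x 5 * x 7 * x 7 * y 0 * y 2 * y 2 + x 5 * y 0 * y 2 * y 5 * y 1 * y 1 + x 5 * y 0 * y 4 * y 4 * y 1 * y 1 + x 6 * x 3 * x 3 * x 4 * x 4 * y 1 * y 1 + x 6 * x 3 * x 3 * y 4 * y 4 * y 1 * y 1 + x 3 * x 3 * x 4 * x 4 * y 6 * y 1 * y 1 + x 3 * x 3 * x 8 * y 2 * y 2 * y 1 * y 1 + x 3 * x 3 * y 2 * y 2 * y 8 * y 1 * y 1 + x 3 * x 3 * y 6 * y 4 * y 4 * y 1 * y 1 + x 4 * x 4 * y 6 * y 3 * y 3 * y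 1 * y 1 + x 7 * x 7 * y 2 * y 2 * y 6 * y 3 * y 3 + x 2 * x 3 * x 3 * x 7 * x 7 * y 0 * y 2 * y 2 + x 2 * x 3 * x 3 * y 0 * y 2 * y 5 * y 1 * y 1 + x 3 * x 3 * x 5 * y 0 * y 2 * y 2 * y 1 * y 1 + x 3 * x 3 * y 2 * y 2 * y 6 * y 3 * y 3 * y 1 * y 1 + x 2 * x 3 * x 3 * x 3 * x 3 * y 0 * y 2 * y 2 * y 1 * y 1 := rfl

omit R in
theorem mv_22 (x y : Fin 24 → K) : mv x y 22 =
    x 22 + y 22 + x 15 * y 12 + x 16 * y 9 + x 18 * y 7 + x 20 * y 1 + x 11 * y 10 + x 13 * y 4 + x 17 * y 3 + x 10 * y 7 * y 9 + x 5 * x 12 * y 1 + x 5 * y 1 * y 12 + x 8 * x 9 * y 1 + x 8 * y 1 * y 9 + x 14 * y 1 * y 7 + x 7 * x 12 * y 4 + x 7 * y 4 * y 12 + x 9 * x 12 * y 3 + x 9 * y 3 * y 12 + x 12 * y 3 * y 9 + x 12 * y 4 * y 7 + x 15 * y 0 * y 9 + x 15 * y 6 * y 7 + x 16 * y 2 * y 7 + x 11 * y 0 * y 4 + x 13 * y 2 * y 3 + x 6 * x 5 * x 7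 * y 1 + x 6 * x 5 * y 1 * y 7 + x 6 * x 7 * x 9 * y 3 + x 6 * x 7 * y 3 * y 9 + x 6 * x 9 * y 3 * y 7 + x 6 * y 3 * y 7 * y 9 + x 3 * x 4 * x 12 * y 1 + x 3 * x 4 * y 1 * y 12 + x 3 * x 12 * y 4 * y 1 + x 3 * y 4 * y 1 * y 12 + x 4 * x 7 * x 9 * y 0 + x 4 * x 7 * y 0 * y 9 + x 4 * x 9 * y 0 * y 7 + x 4 * x 12 * y 3 * y 1 + x 4 * y 0 * y 7 * y 9 + x 4 * y 3 * y 1 * y 12 + x 10 * x 7 * x 7 * y 2 + x 10 * x 7 * y 4 * y 1 + x 10 * x 9 * y 3 * y 1 + x 10 * y 3 * y 1 * y 9 + x 10 * y 4 * y 1 * y 7 + x 5 * y 0 * y 1 * y 9 + x 5 * y 6 * y 1 * y 7 + x 5 * y 10 * y 1 * y 1 + x 8 * y 2 * y 1 * y 7 + x 8 * y 4 * y 1 * y 1 + x 14 * y 3 * y 1 * y 1 + x 7 * x 7 * y 2 * y 10 + x 7 * x 9 * y 0 * y 4 + x 7 * x 12 * y 2 * y 3 + x 7 * y 2 * y 3 * y 12 + x 7 * y 6 * y 4 * y 7 + x 9 * y 0 * y 3 * y 9 + x 9 * y 0 * y 4 * y 7 + x 9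 * y 6 * y 3 * y 7 + x 15 * y 0 * y 2 * y 7 + x 11 * y 0 * y 2 * y 3 + x 2 * x 3 * x 7 * x 9 * y 0 + x 2 * x 3 * x 7 * y 0 * y 9 + x 2 * x 3 * x 9 * y 0 * y 7 + x 2 * x 3 * y 0 * y 7 * y 9 + x 2 * x 7 * x 9 * y 0 * y 3 + x 2 * x 7 * y 0 * y 3 * y 9 + x 2 * x 9 * y 0 * y 3 * y 7 + x 2 * y 0 * y 3 * y 7 * y 9 + x 6 * x 3 * x 4 * x 7 * y 1 + x 6 * x 3 * x 4 * y 1 * y 7 + x 6 * x 3 * x 7 * y 4 * y 1 + x 6 * x 3 * y 4 * y 1 * y 7 + x 6 * x 4 * x 7 * y 3 * y 1 + x 6 * x 4 * y 3 * y 1 * y 7 + x 6 * x 5 * y 3 * y 1 * y 1 + x 6 * x 7 * x 7 * y 2 * y 3 + x 6 * x 7 * y 2 * y 3 * y 7 + x 3 * x 4 * x 10 * y 1 * y 1 + x 3 * x 4 * x 9 * y 0 * y 1 + x 3 * x 4 * y 6 * y 1 * y 7 + x 3 * x 10 * y 4 * y 1 * y 1 + x 3 * x 9 * y 0 * y 4 * y 1 + x 3 * x 12 * y 2 * y 3 * y 1 + x 3 * y 2 * y 3 * y 1 * y 12 + x 3 * y 6 * y 4 * y 1 * y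 7 + x 4 * x 4 * x 7 * y 0 * y 1 + x 4 * x 4 * y 0 * y 1 * y 7 + x 4 * x 10 * y 3 * y 1 * y 1 + x 4 * x 7 * x 7 * y 0 * y 2 + x 4 * x 7 * y 0 * y 2 * y 7 + x 4 * x 7 * y 0 * y 4 * y 1 + x 4 * y 0 * y 3 * y 1 * y 9 + x 4 * y 0 * y 4 * y 1 * y 7 + x 4 * y 6 * y 3 * y 1 * y 7 + x 10 * x 7 * y 2 * y 3 * y 1 + x 5 * y 0 * y 2 * y 1 * y 7 + x 5 * y 0 * y 4 * y 1 * y 1 + x 8 * y 2 * y 3 * y 1 * y 1 + x 7 * x 9 * y 0 * y 2 * y 3 + x 7 * y 2 * y 6 * y 3 * y 7 + x 2 * x 3 * x 3 * x 9 * y 0 * y 1 + x 2 * x 3 * x 3 * y 0 * y 1 * y 9 + x 2 * x 3 * x 4 * x 7 * y 0 * y 1 + x 2 * x 3 * x 4 * y 0 * y 1 * y 7 + x 2 * x 3 * x 7 * x 7 * y 0 * y 2 + x 2 * x 3 * x 7 * y 0 * y 2 * y 7 + x 2 * x 3 * x 9 * y 0 * y 3 * y 1 + x 2 * x 3 * y 0 * y 3 * y 1 * y 9 + x 2 * x 4 * x 7 * y 0 * y 3 * y 1 + x 2 * x 4 * y 0 * y 3 * y 1 * y 7 + x 2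 * x 7 * x 7 * y 0 * y 2 * y 3 + x 2 * x 7 * y 0 * y 2 * y 3 * y 7 + x 6 * x 3 * x 7 * y 2 * y 3 * y 1 + x 6 * x 3 * y 2 * y 3 * y 1 * y 7 + x 3 * x 3 * x 10 * y 2 * y 1 * y 1 + x 3 * x 3 * y 2 * y 10 * y 1 * y 1 + x 3 * x 4 * x 4 * y 0 * y 1 * y 1 + x 3 * x 4 * y 0 * y 4 * y 1 * y 1 + x 3 * x 10 * y 2 * y 3 * y 1 * y 1 + x 3 * x 9 * y 0 * y 2 * y 3 * y 1 + x 3 * y 2 * y 6 * y 3 * y 1 * y 7 + x 4 * x 7 * y 0 * y 2 * y 3 * y 1 + x 5 * y 0 * y 2 * y 3 * y 1 * y 1 + x 2 * x 3 * x 3 * x 4 * y 0 * y 1 * y 1 + x 2 * x 3 * x 3 * y 0 * y 2 * y 1 * y 7 + x 2 * x 3 * x 4 * y 0 * y 3 * y 1 * y 1 + x 2 * x 3 * y 0 * y 2 * y 3 * y 1 * y 7 + x 6 * x 3 * x 3 * y 2 * y 3 * y 1 * y 1 + x 3 * x 3 * x 4 * y 0 * y 2 * y 1 * y 1 + x 3 * x 4 * y 0 * y 2 * y 3 * y 1 * y 1 + x 2 * x 3 * x 3 * x 3 * y 0 * y 2 * y 1 * y 1 + x 2 * x 3 *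 x 3 * y 0 * y 2 * y 3 * y 1 * y 1 := rfl

omit R in
theorem mv_23 (x y : Fin 24 → K) : mv x y 23 =
    x 23 + y 23 + x 14 * y 13 + x 17 * y 8 + x 19 * y 6 + x 21 * y 0 + x 6 * x 13 * y 5 + x 6 * y 5 * y 13 + x 8 * x 13 * y 2 + x 8 * y 2 * y 13 + x 12 * x 12 * y 5 + x 16 * x 16 * y 2 + x 11 * y 6 * y 8 + x 11 * y 10 * y 10 + x 13 * y 2 * y 8 + x 13 * y 6 * y 5 + x 2 * x 5 * x 13 * y 0 + x 2 * x 5 * y 0 * y 13 + x 2 * x 13 * y 0 * y 5 + x 2 * y 0 * y 5 * y 13 + x 6 * x 11 * y 0 * y 5 + x 4 * x 4 * x 13 * y 0 + x 4 * x 4 * y 0 * y 13 + x 5 * x 13 * y 0 * y 2 + x 5 * y 0 * y 2 * y 13 + x 8 * x 11 * y 0 * y 2 + x 14 * y 8 * y 1 * y 1 + x 9 * x 9 * y 0 * y 8 + x 15 * x 15 * y 0 * y 6 + x 11 * y 0 * y 2 * y 8 + x 11 * y 0 * y 6 * y 5 + x 17 * y 6 * y 3 * y 3 + x 2 * x 5 * x 11 * y 0 * y 0 + x 2 * x 11 * y 0 * y 0 *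 y 5 + x 6 * x 5 * x 8 * y 1 * y 1 + x 6 * x 5 * y 8 * y 1 * y 1 + x 6 * x 8 * y 5 * y 1 * y 1 + x 6 * x 7 * x 7 * y 6 * y 5 + x 4 * x 4 * x 11 * y 0 * y 0 + x 10 * x 10 * x 5 * y 1 * y 1 + x 10 * x 10 * x 7 * x 7 * y 2 + x 10 * x 10 * y 5 * y 1 * y 1 + x 5 * x 8 * y 6 * y 1 * y 1 + x 5 * x 11 * y 0 * y 0 * y 2 + x 5 * y 6 * y 8 * y 1 * y 1 + x 5 * y 10 * y 10 * y 1 * y 1 + x 8 * x 7 * x 7 * y 2 * y 6 + x 8 * y 2 * y 8 * y 1 * y 1 + x 8 * y 6 * y 5 * y 1 * y 1 + x 7 * x 7 * y 2 * y 6 * y 8 + x 7 * x 7 * y 2 * y 10 * y 10 + x 9 * x 9 * y 0 * y 0 * y 5 + x 15 * x 15 * y 0 * y 0 * y 2 + x 13 * y 2 * y 6 * y 3 * y 3 + x 2 * x 3 * x 3 * x 13 * y 0 * y 2 + x 2 * x 3 * x 3 * y 0 * y 2 * y 13 + x 2 * x 5 * x 8 * y 0 * y 1 * y 1 + x 2 * x 5 * x 7 * x 7 * y 0 * y 6 + x 2 * x 8 * y 0 * y 5 * y 1 * y 1 + x 2 * x 7 * x 7 *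 y 0 * y 6 * y 5 + x 6 * x 5 * x 5 * y 0 * y 1 * y 1 + x 6 * x 5 * y 0 * y 5 * y 1 * y 1 + x 4 * x 4 * x 7 * x 7 * y 0 * y 6 + x 4 * x 4 * y 0 * y 8 * y 1 * y 1 + x 5 * x 5 * y 0 * y 6 * y 1 * y 1 + x 5 * x 7 * x 7 * y 0 * y 2 * y 6 + x 5 * y 0 * y 2 * y 8 * y 1 * y 1 + x 5 * y 0 * y 6 * y 5 * y 1 * y 1 + x 14 * y 6 * y 3 * y 3 * y 1 * y 1 + x 9 * x 9 * y 0 * y 6 * y 3 * y 3 + x 11 * y 0 * y 2 * y 6 * y 3 * y 3 + x 2 * x 3 * x 3 * x 11 * y 0 * y 0 * y 2 + x 2 * x 5 * x 5 * y 0 * y 0 * y 1 * y 1 + x 2 * x 5 * y 0 * y 0 * y 5 * y 1 * y 1 + x 6 * x 3 * x 3 * x 8 * y 2 * y 1 * y 1 + x 6 * x 3 * x 3 * y 2 * y 8 * y 1 * y 1 + x 6 * x 5 * y 6 * y 3 * y 3 * y 1 * y 1 + x 3 * x 3 * x 10 * x 10 * y 2 * y 1 * y 1 + x 3 * x 3 * x 8 * y 2 * y 6 * y 1 * y 1 + x 3 * x 3 * y 2 * y 6 * y 8 * y 1 * y 1 + x 3 * x 3 * y 2 * y 10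 * y 10 * y 1 * y 1 + x 4 * x 4 * x 5 * y 0 * y 0 * y 1 * y 1 + x 4 * x 4 * y 0 * y 0 * y 5 * y 1 * y 1 + x 8 * y 2 * y 6 * y 3 * y 3 * y 1 * y 1 + x 2 * x 6 * x 3 * x 3 * x 5 * y 0 * y 1 * y 1 + x 2 * x 6 * x 3 * x 3 * y 0 * y 5 * y 1 * y 1 + x 2 * x 3 * x 3 * x 5 * y 0 * y 6 * y 1 * y 1 + x 2 * x 3 * x 3 * x 8 * y 0 * y 2 * y 1 * y 1 + x 2 * x 3 * x 3 * x 7 * x 7 * y 0 * y 2 * y 6 + x 2 * x 3 * x 3 * y 0 * y 6 * y 5 * y 1 * y 1 + x 6 * x 3 * x 3 * x 5 * y 0 * y 2 * y 1 * y 1 + x 3 * x 3 * x 5 * y 0 * y 2 * y 6 * y 1 * y 1 + x 4 * x 4 * y 0 * y 6 * y 3 * y 3 * y 1 * y 1 + x 5 * y 0 * y 2 * y 6 * y 3 * y 3 * y 1 * y 1 + x 2 * x 3 * x 3 * x 5 * y 0 * y 0 * y 2 * y 1 * y 1 + x 6 * x 3 * x 3 * y 2 * y 6 * y 3 * y 3 * y 1 * y 1 + x 3 * x 3 * x 4 * x 4 * y 0 * y 0 * y 2 * y 1 * y 1 + x 2 * x 6 * x 3 * x 3 * x 3 * x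 3 * y 0 * y 2 * y 1 * y 1 + x 2 * x 3 * x 3 * x 3 * x 3 * y 0 * y 2 * y 6 * y 1 * y 1 := rfl

theorem W_zero : W R 0 = 1 := by
  simp [W, R.zero]

end CfsgLib.ReeF4Invol
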