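import Cfsg.Agent.Lib.ReeF4Invol.Abstract

/-!
Involutions of the positive unipotent group of `²F₄`, up to conjugation.
-/

set_option autoImplicit false
set_option linter.unusedSectionVars false
set_option linter.unusedSimpArgs false
set_option linter.unusedTactic false
set_option linter.unreachableTactic false
set_option linter.unnecessarySeqFocus false
set_option maxHeartbeats 1000000
set_option maxRecDepth 4000

namespace CfsgLib.ReeF4Invol

universe u v

variable {K : Type u} [Field K] {G : Type v} [Group G] (θ : K →+* K)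

/-- the equations of the fixed elements -/
structure Fix (x : Fin 24 → K) : Prop where
  f33 : x 1 = θ (x 0)
  f27 : x 3 = θ (x 2)
  f28 : x 4 = θ (x 5) + θ (x 2) * x 2
  f34 : x 7 = θ (x 6)
  f35 : x 9 = θ (x 8)
  f29 : x 10 = θ (x 11)
  f36 : x 12 = θ (x 13) + θ (x 6) * x 6
  f37 : x 15 = θ (x 14)
  f38 : x 16 = θ (x 17)
  f39 : x 18 = θ (x 19)
  f40 : x 20 = θ (x 21) + θ (x 8) * x 8
  f44 : x 22 = θ (x 23) + θ (x 11) * x 11

/-- the fixed element with given coordinates at the long roots -/
def fv (a b u c v g k d e h z w : K) : Fin 24 → K :=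
  ![a, θ a, b, θ b, θ u + θ b * b, u, c, θ c, g, θ g, θ k, k, θ v + θ c * c, v, d, θ d, θ e, e, θ h, h,
    θ z + θ g * g, z, θ w + θ k * k, w]

theorem fix_fv (a b u c v g k d e h z w : K) : Fix θ (fv θ a b u c v g k d e h z w) := by
  constructor <;> rfl

theorem fix_eq {x : Fin 24 → K} (h : Fix θ x) : x = fv θ (x 0) (x 2) (x 5) (x 6) (x 13) (x 8)
    (x 11) (x 14) (x 17) (x 19) (x 21) (x 23) := by
  funext i
  fin_cases i <;>
    simp [fv, h.f33, h.f27, h.f28, h.f34, h.f35, h.f29, h.f36, h.f37, h.f38, h.f39, h.f40, h.f44]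

/-- conjugate under `H` -/
def Cj (H : Subgroup G) (g g' : G) : Prop := ∃ h ∈ H, h * g * h⁻¹ = g'

theorem Cj.trans {H : Subgroup G} {g g' g'' : G} (h₁ : Cj H g g') (h₂ : Cj H g' g'') : Cj H g g'' := by
  obtain ⟨h, hh, rfl⟩ := h₁
  obtain ⟨k, hk, rfl⟩ := h₂
  exact ⟨k * h, mul_mem hk hh, by group⟩

theorem Cj.symm {H : Subgroup G} {g g' : G} (h₁ : Cj H g g') : Cj H g' g := by
  obtain ⟨h, hh, rfl⟩ := h₁
  exact ⟨h⁻¹, inv_mem hh, by group⟩

theorem Cj.refl (H : Subgroup G) (g : G) : Cj H g g := ⟨1, one_mem H, by group⟩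

/-- the positions moved by the reflection of the pair -/
def piA : List (Fin 24 × Fin 24) :=
  [(4, 12), (5, 13), (12, 4), (13, 5), (16, 15), (17, 14), (20, 22),
    (21, 23), (22, 20), (23, 21)]

/-- the positions moved by the reflection of the quadruple -/
def piB : List (Fin 24 × Fin 24) :=
  [(0, 14), (1, 15), (14, 0), (15, 1), (12, 20), (13, 21), (20, 12),
    (21, 13), (16, 18), (17, 19), (18, 16), (19, 17), (22, 22), (23, 23)]

/-- The hypotheses on the twisted group `H`. -/
structure Tw {X : Fin 24 → K → G} (R : Rel X) (H : Subgroup G) : Prop where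
  cyc : ∀ x, θ (θ x) ^ 2 = x
  fin : Finite K
  inj : ∀ x y, W R x = W R y → x = y
  range : ∀ t x, ∃ y, W R t * W R x * (W R t)⁻¹ = W R y
  fixed : ∀ x, W R x ∈ H → Fix θ x
  mem : ∀ x, Fix θ x → W R x ∈ H
  nA : ∃ n ∈ H, ∀ p ∈ piA, ∀ t, n * X p.1 t * n⁻¹ = X p.2 t
  nB : ∃ n ∈ H, ∀ p ∈ piB, ∀ t, n * X p.1 t * n⁻¹ = X p.2 t
  scaleA : ∀ a, a ≠ 0 → Cj H (W R (fv θ a 0 0 0 0 0 0 0 0 0 0 0)) (W R (fv θ 1 0 0 0 0 0 0 0 0 0 0 0))
  scaleZ : ∀ u, u ≠ 0 → Cj H (W R (fv θ 0 0 u 0 0 0 0 0 0 0 0 0)) (W R (fv θ 0 0 1 0 0 0 0 0 0 0 0 0))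

variable {X : Fin 24 → K → G} {R : Rel X} {H : Subgroup G} (P : Tw θ R H)
include P

theorem theta_eq_zero {x : K} (h : θ x = 0) : x = 0 := (map_eq_zero θ).1 h

theorem theta_psi (x : K) : θ (θ x ^ 2) = x := by rw [map_pow, P.cyc]

theorem exists_theta (x : K) : ∃ r, θ r = x := ⟨_, theta_psi θ P x⟩

theorem exists_quad (x : K) : ∃ b, θ b * θ b * b = x := by
  haveI := P.fin
  have hinj : Function.Injective fun b : K => θ b * θ b * b := by
    intro b c h
    simp only at h
    by_cases hc : c = 0
    · subst hc; simpa using h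
    have h1 : θ (b / c) ^ 2 * (b / c) = 1 := by
      rw [map_div₀, div_pow, div_mul_div_comm, sq, sq, h, div_self]
      simp [hc]
    have h2 := congrArg θ h1
    rw [map_mul, map_pow, map_one, P.cyc] at h2
    have hr : b / c ≠ 0 := left_ne_zero_of_mul_eq_one h2
    have h3 : θ (b / c) = (b / c)⁻¹ := eq_inv_of_mul_eq_one_right h2
    rw [h3, sq, mul_assoc, inv_mul_cancel₀ hr, mul_one, inv_eq_one] at h1
    exact (div_eq_one_iff_eq hc).1 h1
  exact (Finite.injective_iff_surjective.1 hinj) x

/-- an involution -/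
def Inv (_P : Tw θ R H) (x : Fin 24 → K) : Prop := W R x ∈ H ∧ W R x * W R x = 1 ∧ x ≠ 0

theorem Inv.fix {x : Fin 24 → K} (hx : Inv θ P x) : Fix θ x := P.fixed x hx.1

theorem Inv.sq {x : Fin 24 → K} (hx : Inv θ P x) (i : Fin 24) : mv x x i = 0 := by
  have h := hx.2.1
  rw [W_mul R, ← W_zero R] at h
  exact congrFun (P.inj _ _ h) i

attribute [local irreducible] W mv

theorem step {x t : Fin 24 → K} (hx : Inv θ P x) (ht : Fix θ t) :
    ∃ y, Inv θ P y ∧ Cj H (W R x) (W R y) ∧ ∀ i, mv t x i = mv y t i := by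
  obtain ⟨y, hy⟩ := P.range t x
  have htH := P.mem t ht
  refine ⟨y, ⟨?_, ?_, ?_⟩, ⟨W R t, htH, hy⟩, congrFun (P.inj _ _ ?_)⟩
  · rw [← hy]; exact mul_mem (mul_mem htH hx.1) (inv_mem htH)
  · rw [← hy, conj_mul, hx.2.1, mul_one, mul_inv_cancel]
  · intro h0
    rw [h0, W_zero R, mul_inv_eq_one, mul_eq_left] at hy
    exact hx.2.2 (P.inj _ _ (by rw [hy, W_zero R]))
  · rw [← W_mul R, ← W_mul R, ← hy, inv_mul_cancel_right]

/-- an element of the first class -/
def IsA (_P : Tw θ R H) (x : Fin 24 → K) : Prop := Cj H (W R x) (W R (fv θ 1 0 0 0 0 0 0 0 0 0 0 0))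

/-- an element of the second class -/
def IsZ (_P : Tw θ R H) (x : Fin 24 → K) : Prop := Cj H (W R x) (W R (fv θ 0 0 1 0 0 0 0 0 0 0 0 0))

theorem base {x : Fin 24 → K} (hx : Inv θ P x) :
    x 2 = 0 ∧ x 3 = 0 ∧ x 4 = θ (x 5) ∧ x 1 = θ (x 0) := by
  have h := hx.sq θ P 4
  have f := hx.fix θ P
  rw [mv_4, f.f27] at h
  have h25 : x 2 = 0 := by
    by_contra h0
    have : θ (x 2) * x 2 = 0 := by linear_combination h - x 4 * R.two
    simp [h0] at this
  exact ⟨h25, by rw [f.f27, h25, map_zero], by rw [f.f28, h25]; simp, f.f33⟩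

theorem baseA {x : Fin 24 → K} (hx : Inv θ P x) (ha : x 0 ≠ 0) :
    x 2 = 0 ∧ x 3 = 0 ∧ x 4 = 0 ∧ x 5 = 0 ∧ x 1 ≠ 0 := by
  obtain ⟨h25, h27, h28, h33⟩ := base θ P hx
  have h := hx.sq θ P 8
  simp [mv_8, h25, h27] at h
  have h30 : x 5 = 0 := by
    refine (mul_eq_zero.1 (?_ : x 5 * x 0 = 0)).resolve_right ha
    linear_combination h - x 8 * R.two
  exact ⟨h25, h27, by rw [h28, h30, map_zero], h30, by rw [h33]; simpa using ha⟩

theorem baseA2 {x : Fin 24 → K} (hx : Inv θ P x) (ha : x 0 ≠ 0) (h26 : x 6 = 0) (h29 : x 10 = 0) :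
    x 7 = 0 ∧ x 11 = 0 ∧ x 9 = 0 ∧ x 8 = 0 ∧ x 15 = 0 ∧ x 14 = 0 ∧ x 20 = 0 ∧ x 21 = 0 := by
  obtain ⟨h25, h27, h28, h30, h33⟩ := baseA θ P hx ha
  have f := hx.fix θ P
  have h34 : x 7 = 0 := by rw [f.f34, h26, map_zero]
  have h41 : x 11 = 0 := theta_eq_zero θ P (by rw [← f.f29, h29])
  have h35 : x 9 = 0 := by
    have h := hx.sq θ P 12
    simp [mv_12, h25, h27, h28, h26, h34, h29] at h
    refine (mul_eq_zero.1 (?_ : x 9 * x 0 = 0)).resolve_right ha
    linear_combination h - x 12 * R.two
  have h31 : x 8 = 0 := theta_eq_zero θ P (by rw [← f.f35, h35])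
  have h37 : x 15 = 0 := by
    have h := hx.sq θ P 16
    simp [mv_16, h25, h27, h28, h30, h26, h34, h29, h35, h31] at h
    refine (mul_eq_zero.1 (?_ : x 15 * x 0 = 0)).resolve_right ha
    linear_combination h - x 16 * R.two
  have h32 : x 14 = 0 := theta_eq_zero θ P (by rw [← f.f37, h37])
  have h40 : x 20 = 0 := by
    have h := hx.sq θ P 22
    simp [mv_22, h25, h27, h28, h30, h26, h34, h29, h41, h35, h31, h37, h32] at h
    refine (mul_eq_zero.1 (?_ : x 20 * x 1 = 0)).resolve_right h33
    linear_combination h - x 22 * R.two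
  refine ⟨h34, h41, h35, h31, h37, h32, h40, theta_eq_zero θ P ?_⟩
  have := f.f40
  rw [h40, h31] at this
  simpa using this.symm

theorem case_A {x : Fin 24 → K} (hx : Inv θ P x) (ha : x 0 ≠ 0) : IsA θ P x := by
  obtain ⟨a25, a27, a28, a30, a33⟩ := baseA θ P hx ha
  obtain ⟨y, hy, c1, e⟩ := step θ P hx (fix_fv θ 0 (x 6 / x 0) 0 0 0 0 0 0 0 0 0 0)
  have y24 : y 0 = x 0 := by have h := e 0; simpa [mv_0, fv] using h.symm
  have ha : y 0 ≠ 0 := by rw [y24]; exact ha
  obtain ⟨b25, b27, b28, b30, b33⟩ := baseA θ P hy ha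
  have y26 : y 6 = 0 := by
    have h := e 6
    simp [mv_6, fv, a25, a27, b25, b27, y24] at h
    linear_combination (norm := (ring_nf <;> simp [R.two, three R, four R])) h + (div_mul_cancel₀ (x 6) (y24 ▸ ha))
  clear e a25 a27 a28 a30 a33 y24
  obtain ⟨r, hr⟩ := exists_theta θ P (y 10 / y 0)
  obtain ⟨x, hx', c2, e⟩ := step θ P hy (fix_fv θ 0 0 r 0 0 0 0 0 0 0 0 0)
  have x24 : x 0 = y 0 := by have h := e 0; simpa [mv_0, fv] using h.symm
  have hx24 : x 0 ≠ 0 := by rw [x24]; exact ha
  obtain ⟨a25, a27, a28, a30, a33⟩ := baseA θ P hx' hx24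
  have x26 : x 6 = 0 := by have h := e 6; simp [mv_6, fv, b25, b27, a25, a27, y26] at h; linear_combination (norm := (ring_nf <;> simp [R.two, three R, four R])) h
  have x29 : x 10 = 0 := by
    have h := e 10
    simp [mv_10, fv, a25, a27, a28, b25, b27, b28, y26, x26, x24, hr] at h
    linear_combination (norm := (ring_nf <;> simp [R.two, three R, four R])) h + (div_mul_cancel₀ (y 10) ha)
  clear e b25 b27 b28 b30 b33 y26 hr r x24
  obtain ⟨a34, a41, a35, a31, a37, a32, a40, a46⟩ := baseA2 θ P hx' hx24 x26 x29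
  obtain ⟨y, hy', c3, e⟩ := step θ P hx' (fix_fv θ 0 0 0 0 0 0 0 (x 18 / x 1) 0 0 0 0)
  have y24 : y 0 = x 0 := by have h := e 0; simpa [mv_0, fv] using h.symm
  have hy24 : y 0 ≠ 0 := by rw [y24]; exact hx24
  obtain ⟨b25, b27, b28, b30, b33⟩ := baseA θ P hy' hy24
  have y26 : y 6 = 0 := by have h := e 6; simp [mv_6, fv, b25, b27, a25, a27, x26] at h; linear_combination (norm := (ring_nf <;> simp [R.two, three R, four R])) h
  have y29 : y 10 = 0 := by have h := e 10; simp [mv_10, fv, a25, a27, a28, b25, b27, b28, x26, y26, x29] at h; linear_combination (norm := (ring_nf <;> simp [R.two, three R, four R])) h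
  obtain ⟨b34, b41, b35, b31, b37, b32, b40, b46⟩ := baseA2 θ P hy' hy24 y26 y29
  have y33 : y 1 = x 1 := by have h := e 1; simpa [mv_1, fv] using h.symm
  have y39 : y 18 = 0 := by
    have h := e 18
    simp [mv_18, fv, a25, a27, a28, a30, b25, b27, b28, b30, x26, y26, x29, y29, a34, b34, a35, b35, a31, b31,
      a37, b37, a32, b32, y33] at h
    linear_combination (norm := (ring_nf <;> simp [R.two, three R, four R])) h + (div_mul_cancel₀ (x 18) a33)
  clear e y24 y33 x26 x29 a25 a27 a28 a30 a34 a41 a35 a31 a37 a32 a40 a46 a33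
  obtain ⟨x, hx', c4, e⟩ := step θ P hy' (fix_fv θ 0 0 0 0 0 (y 16 / y 1) 0 0 0 0 0 0)
  have x24 : x 0 = y 0 := by have h := e 0; simpa [mv_0, fv] using h.symm
  have hx24 : x 0 ≠ 0 := by rw [x24]; exact hy24
  obtain ⟨a25, a27, a28, a30, a33⟩ := baseA θ P hx' hx24
  have x26 : x 6 = 0 := by have h := e 6; simp [mv_6, fv, b25, b27, a25, a27, y26] at h; linear_combination (norm := (ring_nf <;> simp [R.two, three R, four R])) h
  have x29 : x 10 = 0 := by have h := e 10; simp [mv_10, fv, a25, a27, a28, b25, b27, b28, x26, y26, y29] at h; linear_combination (norm := (ring_nf <;> simp [R.two, three R, four R])) h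
  obtain ⟨a34, a41, a35, a31, a37, a32, a40, a46⟩ := baseA2 θ P hx' hx24 x26 x29
  have x33 : x 1 = y 1 := by have h := e 1; simpa [mv_1, fv] using h.symm
  have x39 : x 18 = 0 := by
    have h := e 18
    simp [mv_18, fv, a25, a27, a28, a30, b25, b27, b28, b30, x26, y26, x29, y29, a34, b34, a35, b35, a31, b31, a37, b37, a32, b32, y39] at h; linear_combination (norm := (ring_nf <;> simp [R.two, three R, four R])) h
  have x38 : x 16 = 0 := by
    have h := e 16
    simp [mv_16, fv, a25, a27, a28, a30, b25, b27, b28, b30, x26, y26, x29, y29, a34, b34, a35, b35, a31, b31,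
      a37, b37, a32, b32, x33] at h
    linear_combination (norm := (ring_nf <;> simp [R.two, three R, four R])) h + (div_mul_cancel₀ (y 16) b33)
  clear e x24 x33 y26 y29 y39 b25 b27 b28 b30 b34 b41 b35 b31 b37 b32 b40 b46 b33
  obtain ⟨r, hr⟩ := exists_theta θ P (x 12 / x 1)
  obtain ⟨y, hy', c5, e⟩ := step θ P hx' (fix_fv θ 0 0 0 0 0 0 r 0 0 0 0 0)
  have y24 : y 0 = x 0 := by have h := e 0; simpa [mv_0, fv] using h.symm
  have hy24 : y 0 ≠ 0 := by rw [y24]; exact hx24
  obtain ⟨b25, b27, b28, b30, b33⟩ := baseA θ P hy' hy24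
  have y26 : y 6 = 0 := by have h := e 6; simp [mv_6, fv, b25, b27, a25, a27, x26] at h; linear_combination (norm := (ring_nf <;> simp [R.two, three R, four R])) h
  have y29 : y 10 = 0 := by have h := e 10; simp [mv_10, fv, a25, a27, a28, b25, b27, b28, x26, y26, x29] at h; linear_combination (norm := (ring_nf <;> simp [R.two, three R, four R])) h
  obtain ⟨b34, b41, b35, b31, b37, b32, b40, b46⟩ := baseA2 θ P hy' hy24 y26 y29
  have y33 : y 1 = x 1 := by have h := e 1; simpa [mv_1, fv] using h.symm
  have y39 : y 18 = 0 := by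
    have h := e 18
    simp [mv_18, fv, a25, a27, a28, a30, b25, b27, b28, b30, x26, y26, x29, y29, a34, b34, a35, b35, a31, b31, a37, b37, a32, b32, x39] at h; linear_combination (norm := (ring_nf <;> simp [R.two, three R, four R])) h
  have y38 : y 16 = 0 := by
    have h := e 16
    simp [mv_16, fv, a25, a27, a28, a30, b25, b27, b28, b30, x26, y26, x29, y29, a34, b34, a35, b35, a31, b31, a37, b37, a32, b32, x38] at h; linear_combination (norm := (ring_nf <;> simp [R.two, three R, four R])) h
  have y36 : y 12 = 0 := by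
    have h := e 12
    simp [mv_12, fv, a25, a27, a28, b25, b27, b28, x26, y26, x29, y29, a34, b34, a35, b35, y33, hr] at h
    linear_combination (norm := (ring_nf <;> simp [R.two, three R, four R])) h + (div_mul_cancel₀ (x 12) a33)
  clear e y24 y33 hr r x26 x29 x38 x39 a25 a27 a28 a30 a34 a41 a35 a31 a37 a32 a40 a46 a33
  obtain ⟨r, hr⟩ := exists_theta θ P (y 22 / y 1)
  obtain ⟨x, hx', c6, e⟩ := step θ P hy' (fix_fv θ 0 0 0 0 0 0 0 0 0 0 r 0)
  have x24 : x 0 = y 0 := by have h := e 0; simpa [mv_0, fv] using h.symm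
  have hx24 : x 0 ≠ 0 := by rw [x24]; exact hy24
  obtain ⟨a25, a27, a28, a30, a33⟩ := baseA θ P hx' hx24
  have x26 : x 6 = 0 := by have h := e 6; simp [mv_6, fv, b25, b27, a25, a27, y26] at h; linear_combination (norm := (ring_nf <;> simp [R.two, three R, four R])) h
  have x29 : x 10 = 0 := by have h := e 10; simp [mv_10, fv, a25, a27, a28, b25, b27, b28, x26, y26, y29] at h; linear_combination (norm := (ring_nf <;> simp [R.two, three R, four R])) h
  obtain ⟨a34, a41, a35, a31, a37, a32, a40, a46⟩ := baseA2 θ P hx' hx24 x26 x29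
  have x33 : x 1 = y 1 := by have h := e 1; simpa [mv_1, fv] using h.symm
  have x36 : x 12 = 0 := by
    have h := e 12
    simp [mv_12, fv, a25, a27, a28, b25, b27, b28, x26, y26, x29, y29, a34, b34, a35, b35, y36] at h; linear_combination (norm := (ring_nf <;> simp [R.two, three R, four R])) h
  have x39 : x 18 = 0 := by
    have h := e 18
    simp [mv_18, fv, a25, a27, a28, a30, b25, b27, b28, b30, x26, y26, x29, y29, a34, b34, a35, b35, a31, b31, a37, b37, a32, b32, y39] at h; linear_combination (norm := (ring_nf <;> simp [R.two, three R, four R])) h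
  have x38 : x 16 = 0 := by
    have h := e 16
    simp [mv_16, fv, a25, a27, a28, a30, b25, b27, b28, b30, x26, y26, x29, y29, a34, b34, a35, b35, a31, b31, a37, b37, a32, b32, y38] at h; linear_combination (norm := (ring_nf <;> simp [R.two, three R, four R])) h
  have x44 : x 22 = 0 := by
    have h := e 22
    simp [mv_22, fv, a25, a27, a28, a30, b25, b27, b28, b30, x26, y26, x29, y29, a34, b34, a41, b41, a35, b35,
      a31, b31, a37, b37, a32, b32, x36, y36, x38, y38, x39, y39, a40, b40, x33, hr] at h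
    linear_combination (norm := (ring_nf <;> simp [R.two, three R, four R])) h + (div_mul_cancel₀ (y 22) b33)
  have f := hx'.fix θ P
  have x42 : x 13 = 0 := theta_eq_zero θ P (by simpa [x36, x26] using f.f36.symm)
  have x43 : x 17 = 0 := theta_eq_zero θ P (by rw [← f.f38, x38])
  have x45 : x 19 = 0 := theta_eq_zero θ P (by rw [← f.f39, x39])
  have x47 : x 23 = 0 := theta_eq_zero θ P (by simpa [x44, a41] using f.f44.symm)
  have hxe := fix_eq θ f
  rw [a25, a30, x26, x42, a31, a41, a32, x43, x45, a46, x47] at hxe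
  refine c1.trans (c2.trans (c3.trans (c4.trans (c5.trans (c6.trans ?_)))))
  rw [hxe]
  exact P.scaleA _ hx24

theorem moveA_B (u w : K) : Cj H (W R (fv θ 0 0 u 0 0 0 0 0 0 0 0 w)) (W R (fv θ 0 0 0 0 u 0 0 0 0 0 w 0)) := by
  obtain ⟨n, hn, h⟩ := P.nA
  refine ⟨n, hn, ?_⟩
  have hm : ∀ a b : G, n * (a * b) * n⁻¹ = (n * a * n⁻¹) * (n * b * n⁻¹) := fun a b => conj_mul.symm
  simp (disch := decide) [W, fv, R.zero, hm, h (4, 12) (by decide), h (5, 13) (by decide),
    h (22, 20) (by decide), h (23, 21) (by decide), pass R, R.comm]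

theorem moveA_E (e : K) : Cj H (W R (fv θ 0 0 0 0 0 0 0 0 e 0 0 0)) (W R (fv θ 0 0 0 0 0 0 0 e 0 0 0 0)) := by
  obtain ⟨n, hn, h⟩ := P.nA
  refine ⟨n, hn, ?_⟩
  have hm : ∀ a b : G, n * (a * b) * n⁻¹ = (n * a * n⁻¹) * (n * b * n⁻¹) := fun a b => conj_mul.symm
  simp (disch := decide) [W, fv, R.zero, hm, h (16, 15) (by decide), h (17, 14) (by decide), pass R, R.comm]

theorem moveA_Z (z : K) : Cj H (W R (fv θ 0 0 0 0 0 0 0 0 0 0 z 0)) (W R (fv θ 0 0 0 0 0 0 0 0 0 0 0 z)) := by
  obtain ⟨n, hn, h⟩ := P.nA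
  refine ⟨n, hn, ?_⟩
  have hm : ∀ a b : G, n * (a * b) * n⁻¹ = (n * a * n⁻¹) * (n * b * n⁻¹) := fun a b => conj_mul.symm
  simp (disch := decide) [W, fv, R.zero, hm, h (20, 22) (by decide), h (21, 23) (by decide), pass R, R.comm]

theorem moveB_D (d : K) : Cj H (W R (fv θ 0 0 0 0 0 0 0 d 0 0 0 0)) (W R (fv θ d 0 0 0 0 0 0 0 0 0 0 0)) := by
  obtain ⟨n, hn, h⟩ := P.nB
  refine ⟨n, hn, ?_⟩
  have hm : ∀ a b : G, n * (a * b) * n⁻¹ = (n * a * n⁻¹) * (n * b * n⁻¹) := fun a b => conj_mul.symm
  simp (disch := decide) [W, fv, R.zero, hm, h (14, 0) (by decide), h (15, 1) (by decide), pass R, R.comm]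

theorem moveB_C (v e h' w : K) : Cj H (W R (fv θ 0 0 0 0 v 0 0 0 e h' 0 w))
    (W R (fv θ 0 0 0 0 0 0 0 0 h' e v w)) := by
  obtain ⟨n, hn, h⟩ := P.nB
  refine ⟨n, hn, ?_⟩
  have hm : ∀ a b : G, n * (a * b) * n⁻¹ = (n * a * n⁻¹) * (n * b * n⁻¹) := fun a b => conj_mul.symm
  simp (disch := decide) [W, fv, R.zero, hm, h (12, 20) (by decide), h (13, 21) (by decide),
    h (16, 18) (by decide), h (17, 19) (by decide), h (18, 16) (by decide), h (19, 17) (by decide),
    h (22, 22) (by decide), h (23, 23) (by decide), pass R, R.comm]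
  all_goals simp only [pass R (i := 16) (j := 18) (by decide) (by decide), pass R (i := 17) (j := 18) (by decide) (by decide), pass R (i := 16) (j := 19) (by decide) (by decide), pass R (i := 17) (j := 19) (by decide) (by decide), pass R (i := 16) (j := 20) (by decide) (by decide), pass R (i := 17) (j := 20) (by decide) (by decide), pass R (i := 18) (j := 20) (by decide) (by decide), pass R (i := 19) (j := 20) (by decide) (by decide), pass R (i := 16) (j := 21) (by decide) (by decide), pass R (i := 17) (j := 21) (by decide) (by decide), pass R (i := 18) (j := 21) (by decide) (by decide), pass R (i := 19) (j := 21) (by decide) (by decide)]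

theorem top_Z {w : K} (hw : w ≠ 0) : IsZ θ P (fv θ 0 0 0 0 0 0 0 0 0 0 0 w) := by
  have h1 := (moveA_Z θ P w).symm
  have h2 := (moveB_C θ P w 0 0 0).symm
  exact h1.trans (h2.trans ((moveA_B θ P w 0).symm.trans (P.scaleZ w hw)))

theorem baseC {x : Fin 24 → K} (hx : Inv θ P x) (h24 : x 0 = 0) (h30 : x 5 = 0) :
    x 2 = 0 ∧ x 3 = 0 ∧ x 1 = 0 ∧ x 4 = 0 ∧ x 6 = 0 ∧ x 7 = 0 ∧ x 10 = 0 ∧ x 11 = 0 ∧
      x 8 = 0 ∧ x 9 = 0 ∧ x 12 * x 15 = 0 := by
  obtain ⟨h25, h27, h28, h33⟩ := base θ P hx
  rw [h30, map_zero] at h28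
  rw [h24, map_zero] at h33
  have f := hx.fix θ P
  have h26 : x 6 = 0 := by
    have h := hx.sq θ P 12
    simp [mv_12, h24, h25, h27, h28, h33, f.f34] at h
    by_contra h0
    have : θ (x 6) * x 6 = 0 := by linear_combination h - x 12 * R.two
    simp [h0] at this
  have h34 : x 7 = 0 := by rw [f.f34, h26, map_zero]
  have q39 := hx.sq θ P 18
  simp [mv_18, h24, h25, h27, h28, h30, h33, h26, h34] at q39
  have q40 := hx.sq θ P 20
  simp [mv_20, h24, h25, h27, h28, h30, h33, h26, h34] at q40
  have q44 := hx.sq θ P 22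
  simp [mv_22, h24, h25, h27, h28, h30, h33, h26, h34] at q44
  have q39' : x 10 * x 9 = 0 := by linear_combination q39 - x 18 * R.two
  have q40' : x 10 * x 15 + x 8 * x 9 = 0 := by linear_combination q40 - x 20 * R.two
  have q44' : x 10 * x 11 + x 9 * x 16 + x 12 * x 15 = 0 := by
    linear_combination q44 - x 22 * R.two
  have h41 : x 11 = 0 := by
    by_contra h0
    have h29 : x 10 ≠ 0 := by rw [f.f29]; simpa using h0
    have h35 : x 9 = 0 := (mul_eq_zero.1 q39').resolve_left h29
    have h37 : x 15 = 0 := by simpa [h35, h29] using q40'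
    simp [h35, h37, h29, h0] at q44'
  have h29 : x 10 = 0 := by rw [f.f29, h41, map_zero]
  have h31 : x 8 = 0 := by
    by_contra h0
    simp [h29, h0, f.f35] at q40'
  have h35 : x 9 = 0 := by rw [f.f35, h31, map_zero]
  exact ⟨h25, h27, h33, h28, h26, h34, h29, h41, h31, h35, by simpa [h29, h35] using q44'⟩

theorem case_C2 {x : Fin 24 → K} (hx : Inv θ P x) (h24 : x 0 = 0) (h30 : x 5 = 0) (h36 : x 12 = 0) :
    IsA θ P x ∨ IsZ θ P x := by
  obtain ⟨a25, a27, a33, a28, a26, a34, a29, a41, a31, a35, -⟩ := baseC θ P hx h24 h30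
  have f := hx.fix θ P
  have h42 : x 13 = 0 := theta_eq_zero θ P (by simpa [h36, a26] using f.f36.symm)
  by_cases h32 : x 14 = 0
  swap
  · have h37 : x 15 ≠ 0 := by rw [f.f37]; simpa using h32
    obtain ⟨y, hy, c1, e⟩ := step θ P hx (fix_fv θ (x 16 / x 15) 0 0 0 0 0 0 0 0 0 0 0)
    have y24 : y 0 = 0 := by
      have h := e 0; simp [mv_0, fv, h24] at h; linear_combination (norm := (ring_nf <;> simp [R.two, three R, four R])) h
    have y30 : y 5 = 0 := by
      have h := e 5; simp [mv_5, fv, a25, a27, (base θ P hy).1, (base θ P hy).2.1, h30] at h; linear_combination (norm := (ring_nf <;> simp [R.two, three R, four R])) h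
    obtain ⟨b25, b27, b33, b28, b26, b34, b29, b41, b31, b35, -⟩ := baseC θ P hy y24 y30
    have y36 : y 12 = 0 := by
      have h := e 12; simp [mv_12, fv, a25, a27, a33, a28, a26, a34, a29, a41, a31, a35, h24, h30, b25, b27, b33, b28, b26, b34, b29, b41, b31, b35, y24, y30, h36] at h; linear_combination (norm := (ring_nf <;> simp [R.two, three R, four R])) h
    have y37 : y 15 = x 15 := by
      have h := e 15; simp [mv_15, fv, a25, a27, a33, a28, a26, a34, a29, a41, a31, a35, h24, h30, h36, b25, b27, b33, b28, b26, b34, b29, b41, b31, b35, y24, y30, y36] at h; linear_combination (norm := (ring_nf <;> simp [R.two, three R, four R])) h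
    have y38 : y 16 = 0 := by
      have h := e 16
      simp [mv_16, fv, a25, a27, a33, a28, a26, a34, a29, a41, a31, a35, h24, h30, h36, b25, b27, b33, b28, b26, b34, b29, b41, b31, b35, y24, y30, y36, y37] at h
      linear_combination (norm := (ring_nf <;> simp [R.two, three R, four R])) h + (div_mul_cancel₀ (x 16) h37)
    clear e a25 a27 a33 a28 a26 a34 a29 a41 a31 a35
    have h37 : y 15 ≠ 0 := by rw [y37]; exact h37
    clear y37
    obtain ⟨z, hz, c2, e⟩ := step θ P hy (fix_fv θ 0 0 0 (y 18 / y 15) 0 0 0 0 0 0 0 0)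
    have z24 : z 0 = 0 := by
      have h := e 0; simp [mv_0, fv, y24] at h; linear_combination (norm := (ring_nf <;> simp [R.two, three R, four R])) h
    have z30 : z 5 = 0 := by
      have h := e 5; simp [mv_5, fv, b25, b27, (base θ P hz).1, (base θ P hz).2.1, y30] at h; linear_combination (norm := (ring_nf <;> simp [R.two, three R, four R])) h
    obtain ⟨a25, a27, a33, a28, a26, a34, a29, a41, a31, a35, -⟩ := baseC θ P hz z24 z30
    have z36 : z 12 = 0 := by
      have h := e 12; simp [mv_12, fv, b25, b27, b33, b28, b26, b34, b29, b41, b31, b35, y24, y30, a25, a27, a33, a28, a26, a34, a29, a41, a31, a35, z24, z30, y36] at h; linear_combination (norm := (ring_nf <;> simp [R.two, three R, four R])) h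
    have z37 : z 15 = y 15 := by
      have h := e 15; simp [mv_15, fv, b25, b27, b33, b28, b26, b34, b29, b41, b31, b35, y24, y30, y36, a25, a27, a33, a28, a26, a34, a29, a41, a31, a35, z24, z30, z36] at h; linear_combination (norm := (ring_nf <;> simp [R.two, three R, four R])) h
    have z38 : z 16 = 0 := by
      have h := e 16; simp [mv_16, fv, b25, b27, b33, b28, b26, b34, b29, b41, b31, b35, y24, y30, y36, a25, a27, a33, a28, a26, a34, a29, a41, a31, a35, z24, z30, z36, y38] at h; linear_combination (norm := (ring_nf <;> simp [R.two, three R, four R])) h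
    have z39 : z 18 = 0 := by
      have h := e 18
      simp [mv_18, fv, b25, b27, b33, b28, b26, b34, b29, b41, b31, b35, y24, y30, y36, a25, a27, a33, a28, a26, a34, a29, a41, a31, a35, z24, z30, z36, z37, y38, z38] at h
      linear_combination (norm := (ring_nf <;> simp [R.two, three R, four R])) h + (div_mul_cancel₀ (y 18) h37)
    clear e b25 b27 b33 b28 b26 b34 b29 b41 b31 b35
    have h37 : z 15 ≠ 0 := by rw [z37]; exact h37
    clear z37 y38
    obtain ⟨r, hr⟩ := exists_theta θ P (z 20 / z 15)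
    obtain ⟨y, hy, c3, e⟩ := step θ P hz (fix_fv θ 0 0 0 0 0 0 r 0 0 0 0 0)
    have y24 : y 0 = 0 := by
      have h := e 0; simp [mv_0, fv, z24] at h; linear_combination (norm := (ring_nf <;> simp [R.two, three R, four R])) h
    have y30 : y 5 = 0 := by
      have h := e 5; simp [mv_5, fv, a25, a27, (base θ P hy).1, (base θ P hy).2.1, z30] at h; linear_combination (norm := (ring_nf <;> simp [R.two, three R, four R])) h
    obtain ⟨b25, b27, b33, b28, b26, b34, b29, b41, b31, b35, -⟩ := baseC θ P hy y24 y30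
    have y36 : y 12 = 0 := by
      have h := e 12; simp [mv_12, fv, a25, a27, a33, a28, a26, a34, a29, a41, a31, a35, z24, z30, b25, b27, b33, b28, b26, b34, b29, b41, b31, b35, y24, y30, z36] at h; linear_combination (norm := (ring_nf <;> simp [R.two, three R, four R])) h
    have y37 : y 15 = z 15 := by
      have h := e 15; simp [mv_15, fv, a25, a27, a33, a28, a26, a34, a29, a41, a31, a35, z24, z30, z36, b25, b27, b33, b28, b26, b34, b29, b41, b31, b35, y24, y30, y36] at h; linear_combination (norm := (ring_nf <;> simp [R.two, three R, four R])) h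
    have y38 : y 16 = 0 := by
      have h := e 16; simp [mv_16, fv, a25, a27, a33, a28, a26, a34, a29, a41, a31, a35, z24, z30, z36, b25, b27, b33, b28, b26, b34, b29, b41, b31, b35, y24, y30, y36, z38] at h; linear_combination (norm := (ring_nf <;> simp [R.two, three R, four R])) h
    have y39 : y 18 = 0 := by
      have h := e 18; simp [mv_18, fv, a25, a27, a33, a28, a26, a34, a29, a41, a31, a35, z24, z30, z36, b25, b27, b33, b28, b26, b34, b29, b41, b31, b35, y24, y30, y36, z39, y38, z38] at h; linear_combination (norm := (ring_nf <;> simp [R.two, three R, four R])) h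
    have y40 : y 20 = 0 := by
      have h := e 20
      simp [mv_20, fv, a25, a27, a33, a28, a26, a34, a29, a41, a31, a35, z24, z30, z36, b25, b27, b33, b28, b26, b34, b29, b41, b31, b35, y24, y30, y36, y37, z38, y38, z39, y39, hr] at h
      linear_combination (norm := (ring_nf <;> simp [R.two, three R, four R])) h + (div_mul_cancel₀ (z 20) h37)
    clear e a25 a27 a33 a28 a26 a34 a29 a41 a31 a35
    have h37 : y 15 ≠ 0 := by rw [y37]; exact h37
    clear y37 z38 z39 hr r
    obtain ⟨r, hr⟩ := exists_theta θ P (y 22 / y 15)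
    obtain ⟨z, hz, c4, e⟩ := step θ P hy (fix_fv θ 0 0 0 0 r 0 0 0 0 0 0 0)
    have z24 : z 0 = 0 := by
      have h := e 0; simp [mv_0, fv, y24] at h; linear_combination (norm := (ring_nf <;> simp [R.two, three R, four R])) h
    have z30 : z 5 = 0 := by
      have h := e 5; simp [mv_5, fv, b25, b27, (base θ P hz).1, (base θ P hz).2.1, y30] at h; linear_combination (norm := (ring_nf <;> simp [R.two, three R, four R])) h
    obtain ⟨a25, a27, a33, a28, a26, a34, a29, a41, a31, a35, -⟩ := baseC θ P hz z24 z30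
    have z36 : z 12 = 0 := by
      have h := e 12; simp [mv_12, fv, b25, b27, b33, b28, b26, b34, b29, b41, b31, b35, y24, y30, a25, a27, a33, a28, a26, a34, a29, a41, a31, a35, z24, z30, y36] at h; linear_combination (norm := (ring_nf <;> simp [R.two, three R, four R])) h
    have z37 : z 15 = y 15 := by
      have h := e 15; simp [mv_15, fv, b25, b27, b33, b28, b26, b34, b29, b41, b31, b35, y24, y30, y36, a25, a27, a33, a28, a26, a34, a29, a41, a31, a35, z24, z30, z36] at h; linear_combination (norm := (ring_nf <;> simp [R.two, three R, four R])) h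
    have z38 : z 16 = 0 := by
      have h := e 16; simp [mv_16, fv, b25, b27, b33, b28, b26, b34, b29, b41, b31, b35, y24, y30, y36, a25, a27, a33, a28, a26, a34, a29, a41, a31, a35, z24, z30, z36, y38] at h; linear_combination (norm := (ring_nf <;> simp [R.two, three R, four R])) h
    have z39 : z 18 = 0 := by
      have h := e 18; simp [mv_18, fv, b25, b27, b33, b28, b26, b34, b29, b41, b31, b35, y24, y30, y36, a25, a27, a33, a28, a26, a34, a29, a41, a31, a35, z24, z30, z36, y39, y38, z38] at h; linear_combination (norm := (ring_nf <;> simp [R.two, three R, four R])) h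
    have z40 : z 20 = 0 := by
      have h := e 20; simp [mv_20, fv, b25, b27, b33, b28, b26, b34, b29, b41, b31, b35, y24, y30, y36, a25, a27, a33, a28, a26, a34, a29, a41, a31, a35, z24, z30, z36, y38, z38, y39, z39, y40] at h; linear_combination (norm := (ring_nf <;> simp [R.two, three R, four R])) h
    have z44 : z 22 = 0 := by
      have h := e 22
      simp [mv_22, fv, b25, b27, b33, b28, b26, b34, b29, b41, b31, b35, y24, y30, y36, a25, a27, a33, a28, a26, a34, a29, a41, a31, a35, z24, z30, z36, z37, y38, z38, y39, z39, y40, z40, hr] at h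
      linear_combination (norm := (ring_nf <;> simp [R.two, three R, four R])) h + (div_mul_cancel₀ (y 22) h37)
    have fz := hz.fix θ P
    have z42 : z 13 = 0 := theta_eq_zero θ P (by simpa [z36, a26] using fz.f36.symm)
    have z43 : z 17 = 0 := theta_eq_zero θ P (by rw [← fz.f38, z38])
    have z45 : z 19 = 0 := theta_eq_zero θ P (by rw [← fz.f39, z39])
    have z46 : z 21 = 0 := theta_eq_zero θ P (by simpa [z40, a31] using fz.f40.symm)
    have z47 : z 23 = 0 := theta_eq_zero θ P (by simpa [z44, a41] using fz.f44.symm)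
    have hze := fix_eq θ fz
    rw [z24, a25, z30, a26, z42, a31, a41, z43, z45, z46, z47] at hze
    have hd : z 14 ≠ 0 := by
      intro h0
      rw [fz.f37, h0, map_zero] at z37
      exact h37 z37.symm
    refine Or.inl (c1.trans (c2.trans (c3.trans (c4.trans ?_))))
    rw [hze]
    exact (moveB_D θ P _).trans (P.scaleA _ hd)
  have h37 : x 15 = 0 := by rw [f.f37, h32, map_zero]
  by_cases h43 : x 17 = 0
  swap
  · have h38 : x 16 ≠ 0 := by rw [f.f38]; simpa using h43
    obtain ⟨y, hy, c1, e⟩ := step θ P hx (fix_fv θ 0 (x 18 / x 16) 0 0 0 0 0 0 0 0 0 0)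
    have y24 : y 0 = 0 := by
      have h := e 0; simp [mv_0, fv, h24] at h; linear_combination (norm := (ring_nf <;> simp [R.two, three R, four R])) h
    have y30 : y 5 = 0 := by
      have h := e 5; simp [mv_5, fv, a25, a27, (base θ P hy).1, (base θ P hy).2.1, h30] at h; linear_combination (norm := (ring_nf <;> simp [R.two, three R, four R])) h
    obtain ⟨b25, b27, b33, b28, b26, b34, b29, b41, b31, b35, -⟩ := baseC θ P hy y24 y30
    have y36 : y 12 = 0 := by
      have h := e 12; simp [mv_12, fv, a25, a27, a33, a28, a26, a34, a29, a41, a31, a35, h24, h30, b25, b27, b33, b28, b26, b34, b29, b41, b31, b35, y24, y30, h36] at h; linear_combination (norm := (ring_nf <;> simp [R.two, three R, four R])) h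
    have y32 : y 14 = 0 := by
      have h := e 14; simp [mv_14, fv, a25, a27, a33, a28, a26, a34, a29, a41, a31, a35, h24, h30, h36, b25, b27, b33, b28, b26, b34, b29, b41, b31, b35, y24, y30, y36, h32] at h; linear_combination (norm := (ring_nf <;> simp [R.two, three R, four R])) h
    have y37 : y 15 = 0 := by rw [(hy.fix θ P).f37, y32, map_zero]
    have y38 : y 16 = x 16 := by
      have h := e 16; simp [mv_16, fv, a25, a27, a33, a28, a26, a34, a29, a41, a31, a35, h24, h30, h36, b25, b27, b33, b28, b26, b34, b29, b41, b31, b35, y24, y30, y36] at h; linear_combination (norm := (ring_nf <;> simp [R.two, three R, four R])) h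
    have y39 : y 18 = 0 := by
      have h := e 18
      simp [mv_18, fv, a25, a27, a33, a28, a26, a34, a29, a41, a31, a35, h24, h30, h36, b25, b27, b33, b28, b26, b34, b29, b41, b31, b35, y24, y30, y36, h37, y37, h32, y32, y38] at h
      linear_combination (norm := (ring_nf <;> simp [R.two, three R, four R])) h + (div_mul_cancel₀ (x 18) h38)
    have h38 : y 16 ≠ 0 := by rw [y38]; exact h38
    clear e a25 a27 a33 a28 a26 a34 a29 a41 a31 a35
    clear y38
    obtain ⟨r, hr⟩ := exists_theta θ P (y 20 / y 16)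
    obtain ⟨z, hz, c2, e⟩ := step θ P hy (fix_fv θ 0 0 r 0 0 0 0 0 0 0 0 0)
    have z24 : z 0 = 0 := by
      have h := e 0; simp [mv_0, fv, y24] at h; linear_combination (norm := (ring_nf <;> simp [R.two, three R, four R])) h
    have z30 : z 5 = 0 := by
      have h := e 5; simp [mv_5, fv, b25, b27, (base θ P hz).1, (base θ P hz).2.1, y30] at h; linear_combination (norm := (ring_nf <;> simp [R.two, three R, four R])) h
    obtain ⟨a25, a27, a33, a28, a26, a34, a29, a41, a31, a35, -⟩ := baseC θ P hz z24 z30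
    have z36 : z 12 = 0 := by
      have h := e 12; simp [mv_12, fv, b25, b27, b33, b28, b26, b34, b29, b41, b31, b35, y24, y30, a25, a27, a33, a28, a26, a34, a29, a41, a31, a35, z24, z30, y36] at h; linear_combination (norm := (ring_nf <;> simp [R.two, three R, four R])) h
    have z32 : z 14 = 0 := by
      have h := e 14; simp [mv_14, fv, b25, b27, b33, b28, b26, b34, b29, b41, b31, b35, y24, y30, y36, a25, a27, a33, a28, a26, a34, a29, a41, a31, a35, z24, z30, z36, y32] at h; linear_combination (norm := (ring_nf <;> simp [R.two, three R, four R])) h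
    have z37 : z 15 = 0 := by rw [(hz.fix θ P).f37, z32, map_zero]
    have z38 : z 16 = y 16 := by
      have h := e 16; simp [mv_16, fv, b25, b27, b33, b28, b26, b34, b29, b41, b31, b35, y24, y30, y36, a25, a27, a33, a28, a26, a34, a29, a41, a31, a35, z24, z30, z36] at h; linear_combination (norm := (ring_nf <;> simp [R.two, three R, four R])) h
    have z39 : z 18 = 0 := by
      have h := e 18; simp [mv_18, fv, b25, b27, b33, b28, b26, b34, b29, b41, b31, b35, y24, y30, y36, a25, a27, a33, a28, a26, a34, a29, a41, a31, a35, z24, z30, z36, y37, z37, y32, z32, y39] at h; linear_combination (norm := (ring_nf <;> simp [R.two, three R, four R])) h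
    have z40 : z 20 = 0 := by
      have h := e 20
      simp [mv_20, fv, b25, b27, b33, b28, b26, b34, b29, b41, b31, b35, y24, y30, y36, a25, a27, a33, a28, a26, a34, a29, a41, a31, a35, z24, z30, z36, y37, z37, y32, z32, y39, z39, z38, hr] at h
      linear_combination (norm := (ring_nf <;> simp [R.two, three R, four R])) h + (div_mul_cancel₀ (y 20) h38)
    have h38 : z 16 ≠ 0 := by rw [z38]; exact h38
    clear e b25 b27 b33 b28 b26 b34 b29 b41 b31 b35
    clear z38 y39 hr r
    obtain ⟨r, hr⟩ := exists_theta θ P (z 22 / z 16)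
    obtain ⟨y, hy, c3, e⟩ := step θ P hz (fix_fv θ 0 0 0 0 0 r 0 0 0 0 0 0)
    have y24 : y 0 = 0 := by
      have h := e 0; simp [mv_0, fv, z24] at h; linear_combination (norm := (ring_nf <;> simp [R.two, three R, four R])) h
    have y30 : y 5 = 0 := by
      have h := e 5; simp [mv_5, fv, a25, a27, (base θ P hy).1, (base θ P hy).2.1, z30] at h; linear_combination (norm := (ring_nf <;> simp [R.two, three R, four R])) h
    obtain ⟨b25, b27, b33, b28, b26, b34, b29, b41, b31, b35, -⟩ := baseC θ P hy y24 y30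
    have y36 : y 12 = 0 := by
      have h := e 12; simp [mv_12, fv, a25, a27, a33, a28, a26, a34, a29, a41, a31, a35, z24, z30, b25, b27, b33, b28, b26, b34, b29, b41, b31, b35, y24, y30, z36] at h; linear_combination (norm := (ring_nf <;> simp [R.two, three R, four R])) h
    have y32 : y 14 = 0 := by
      have h := e 14; simp [mv_14, fv, a25, a27, a33, a28, a26, a34, a29, a41, a31, a35, z24, z30, z36, b25, b27, b33, b28, b26, b34, b29, b41, b31, b35, y24, y30, y36, z32] at h; linear_combination (norm := (ring_nf <;> simp [R.two, three R, four R])) h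
    have y37 : y 15 = 0 := by rw [(hy.fix θ P).f37, y32, map_zero]
    have y38 : y 16 = z 16 := by
      have h := e 16; simp [mv_16, fv, a25, a27, a33, a28, a26, a34, a29, a41, a31, a35, z24, z30, z36, b25, b27, b33, b28, b26, b34, b29, b41, b31, b35, y24, y30, y36] at h; linear_combination (norm := (ring_nf <;> simp [R.two, three R, four R])) h
    have y39 : y 18 = 0 := by
      have h := e 18; simp [mv_18, fv, a25, a27, a33, a28, a26, a34, a29, a41, a31, a35, z24, z30, z36, b25, b27, b33, b28, b26, b34, b29, b41, b31, b35, y24, y30, y36, y37, z37, y32, z32, z39] at h; linear_combination (norm := (ring_nf <;> simp [R.two, three R, four R])) h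
    have y40 : y 20 = 0 := by
      have h := e 20; simp [mv_20, fv, a25, a27, a33, a28, a26, a34, a29, a41, a31, a35, z24, z30, z36, b25, b27, b33, b28, b26, b34, b29, b41, b31, b35, y24, y30, y36, y37, z37, y32, z32, y39, z39, z40] at h; linear_combination (norm := (ring_nf <;> simp [R.two, three R, four R])) h
    have y44 : y 22 = 0 := by
      have h := e 22
      simp [mv_22, fv, a25, a27, a33, a28, a26, a34, a29, a41, a31, a35, z24, z30, z36, b25, b27, b33, b28, b26, b34, b29, b41, b31, b35, y24, y30, y36, y37, z37, y32, z32, y38, y39, z39, y40, z40, hr] at h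
      linear_combination (norm := (ring_nf <;> simp [R.two, three R, four R])) h + (div_mul_cancel₀ (z 22) h38)
    have fy := hy.fix θ P
    have y42 : y 13 = 0 := theta_eq_zero θ P (by simpa [y36, b26] using fy.f36.symm)
    have y45 : y 19 = 0 := theta_eq_zero θ P (by rw [← fy.f39, y39])
    have y46 : y 21 = 0 := theta_eq_zero θ P (by simpa [y40, b31] using fy.f40.symm)
    have y47 : y 23 = 0 := theta_eq_zero θ P (by simpa [y44, b41] using fy.f44.symm)
    have hye := fix_eq θ fy
    rw [y24, b25, y30, b26, y42, b31, b41, y32, y45, y46, y47] at hye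
    have he : y 17 ≠ 0 := by
      intro h0
      rw [fy.f38, h0, map_zero] at y38
      exact h38 y38.symm
    refine Or.inl (c1.trans (c2.trans (c3.trans ?_)))
    rw [hye]
    exact (moveA_E θ P _).trans ((moveB_D θ P _).trans (P.scaleA _ he))
  have h38 : x 16 = 0 := by rw [f.f38, h43, map_zero]
  by_cases h45 : x 19 = 0
  swap
  · have h39 : x 18 ≠ 0 := by rw [f.f39]; simpa using h45
    obtain ⟨r, hr⟩ := exists_theta θ P (x 20 / x 18)
    obtain ⟨y, hy, c1, e⟩ := step θ P hx (fix_fv θ 0 r 0 0 0 0 0 0 0 0 0 0)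
    have y24 : y 0 = 0 := by
      have h := e 0; simp [mv_0, fv, h24] at h; linear_combination (norm := (ring_nf <;> simp [R.two, three R, four R])) h
    have y30 : y 5 = 0 := by
      have h := e 5; simp [mv_5, fv, a25, a27, (base θ P hy).1, (base θ P hy).2.1, h30] at h; linear_combination (norm := (ring_nf <;> simp [R.two, three R, four R])) h
    obtain ⟨b25, b27, b33, b28, b26, b34, b29, b41, b31, b35, -⟩ := baseC θ P hy y24 y30
    have y36 : y 12 = 0 := by
      have h := e 12; simp [mv_12, fv, a25, a27, a33, a28, a26, a34, a29, a41, a31, a35, h24, h30, b25, b27, b33, b28, b26, b34, b29, b41, b31, b35, y24, y30, h36] at h; linear_combination (norm := (ring_nf <;> simp [R.two, three R, four R])) h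
    have y32 : y 14 = 0 := by
      have h := e 14; simp [mv_14, fv, a25, a27, a33, a28, a26, a34, a29, a41, a31, a35, h24, h30, h36, b25, b27, b33, b28, b26, b34, b29, b41, b31, b35, y24, y30, y36, h32] at h; linear_combination (norm := (ring_nf <;> simp [R.two, three R, four R])) h
    have y37 : y 15 = 0 := by rw [(hy.fix θ P).f37, y32, map_zero]
    have y38 : y 16 = 0 := by
      have h := e 16; simp [mv_16, fv, a25, a27, a33, a28, a26, a34, a29, a41, a31, a35, h24, h30, h36, b25, b27, b33, b28, b26, b34, b29, b41, b31, b35, y24, y30, y36, h37, y37, h38] at h; linear_combination (norm := (ring_nf <;> simp [R.two, three R, four R])) h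
    have y39 : y 18 = x 18 := by
      have h := e 18; simp [mv_18, fv, a25, a27, a33, a28, a26, a34, a29, a41, a31, a35, h24, h30, h36, b25, b27, b33, b28, b26, b34, b29, b41, b31, b35, y24, y30, y36, h37, y37, h32, y32, h38, y38] at h; linear_combination (norm := (ring_nf <;> simp [R.two, three R, four R])) h
    have y40 : y 20 = 0 := by
      have h := e 20
      simp [mv_20, fv, a25, a27, a33, a28, a26, a34, a29, a41, a31, a35, h24, h30, h36, b25, b27, b33, b28, b26, b34, b29, b41, b31, b35, y24, y30, y36, h37, y37, h32, y32, h38, y38, y39, hr] at h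
      linear_combination (norm := (ring_nf <;> simp [R.two, three R, four R])) h + (div_mul_cancel₀ (x 20) h39)
    have h39 : y 18 ≠ 0 := by rw [y39]; exact h39
    clear e a25 a27 a33 a28 a26 a34 a29 a41 a31 a35
    clear y39 hr r
    obtain ⟨r, hr⟩ := exists_theta θ P (y 22 / y 18)
    obtain ⟨z, hz, c2, e⟩ := step θ P hy (fix_fv θ 0 0 0 r 0 0 0 0 0 0 0 0)
    have z24 : z 0 = 0 := by
      have h := e 0; simp [mv_0, fv, y24] at h; linear_combination (norm := (ring_nf <;> simp [R.two, three R, four R])) h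
    have z30 : z 5 = 0 := by
      have h := e 5; simp [mv_5, fv, b25, b27, (base θ P hz).1, (base θ P hz).2.1, y30] at h; linear_combination (norm := (ring_nf <;> simp [R.two, three R, four R])) h
    obtain ⟨a25, a27, a33, a28, a26, a34, a29, a41, a31, a35, -⟩ := baseC θ P hz z24 z30
    have z36 : z 12 = 0 := by
      have h := e 12; simp [mv_12, fv, b25, b27, b33, b28, b26, b34, b29, b41, b31, b35, y24, y30, a25, a27, a33, a28, a26, a34, a29, a41, a31, a35, z24, z30, y36] at h; linear_combination (norm := (ring_nf <;> simp [R.two, three R, four R])) h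
    have z32 : z 14 = 0 := by
      have h := e 14; simp [mv_14, fv, b25, b27, b33, b28, b26, b34, b29, b41, b31, b35, y24, y30, y36, a25, a27, a33, a28, a26, a34, a29, a41, a31, a35, z24, z30, z36, y32] at h; linear_combination (norm := (ring_nf <;> simp [R.two, three R, four R])) h
    have z37 : z 15 = 0 := by rw [(hz.fix θ P).f37, z32, map_zero]
    have z38 : z 16 = 0 := by
      have h := e 16; simp [mv_16, fv, b25, b27, b33, b28, b26, b34, b29, b41, b31, b35, y24, y30, y36, a25, a27, a33, a28, a26, a34, a29, a41, a31, a35, z24, z30, z36, y37, z37, y38] at h; linear_combination (norm := (ring_nf <;> simp [R.two, three R, four R])) h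
    have z39 : z 18 = y 18 := by
      have h := e 18; simp [mv_18, fv, b25, b27, b33, b28, b26, b34, b29, b41, b31, b35, y24, y30, y36, a25, a27, a33, a28, a26, a34, a29, a41, a31, a35, z24, z30, z36, y37, z37, y32, z32, y38, z38] at h; linear_combination (norm := (ring_nf <;> simp [R.two, three R, four R])) h
    have z40 : z 20 = 0 := by
      have h := e 20; simp [mv_20, fv, b25, b27, b33, b28, b26, b34, b29, b41, b31, b35, y24, y30, y36, a25, a27, a33, a28, a26, a34, a29, a41, a31, a35, z24, z30, z36, y37, z37, y32, z32, y38, z38, y40] at h; linear_combination (norm := (ring_nf <;> simp [R.two, three R, four R])) h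
    have z44 : z 22 = 0 := by
      have h := e 22
      simp [mv_22, fv, b25, b27, b33, b28, b26, b34, b29, b41, b31, b35, y24, y30, y36, a25, a27, a33, a28, a26, a34, a29, a41, a31, a35, z24, z30, z36, y37, z37, y32, z32, y38, z38, z39, y40, z40, hr] at h
      linear_combination (norm := (ring_nf <;> simp [R.two, three R, four R])) h + (div_mul_cancel₀ (y 22) h39)
    have fz := hz.fix θ P
    have z42 : z 13 = 0 := theta_eq_zero θ P (by simpa [z36, a26] using fz.f36.symm)
    have z43 : z 17 = 0 := theta_eq_zero θ P (by rw [← fz.f38, z38])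
    have z46 : z 21 = 0 := theta_eq_zero θ P (by simpa [z40, a31] using fz.f40.symm)
    have z47 : z 23 = 0 := theta_eq_zero θ P (by simpa [z44, a41] using fz.f44.symm)
    have hze := fix_eq θ fz
    rw [z24, a25, z30, a26, z42, a31, a41, z32, z43, z46, z47] at hze
    have hh : z 19 ≠ 0 := by
      intro h0
      rw [fz.f39, h0, map_zero] at z39
      exact h39 z39.symm
    refine Or.inl (c1.trans (c2.trans ?_))
    rw [hze]
    exact (moveB_C θ P 0 0 _ 0).trans ((moveA_E θ P _).trans ((moveB_D θ P _).trans (P.scaleA _ hh)))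
  have h39 : x 18 = 0 := by rw [f.f39, h45, map_zero]
  by_cases h46 : x 21 = 0
  swap
  · have h40 : x 20 ≠ 0 := by rw [f.f40, a31]; simpa using h46
    obtain ⟨r, hr⟩ := exists_theta θ P (x 22 / x 20)
    obtain ⟨y, hy, c1, e⟩ := step θ P hx (fix_fv θ r 0 0 0 0 0 0 0 0 0 0 0)
    have y24 : y 0 = 0 := by
      have h := e 0; simp [mv_0, fv, h24] at h; linear_combination (norm := (ring_nf <;> simp [R.two, three R, four R])) h
    have y30 : y 5 = 0 := by
      have h := e 5; simp [mv_5, fv, a25, a27, (base θ P hy).1, (base θ P hy).2.1, h30] at h; linear_combination (norm := (ring_nf <;> simp [R.two, three R, four R])) h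
    obtain ⟨b25, b27, b33, b28, b26, b34, b29, b41, b31, b35, -⟩ := baseC θ P hy y24 y30
    have y36 : y 12 = 0 := by
      have h := e 12; simp [mv_12, fv, a25, a27, a33, a28, a26, a34, a29, a41, a31, a35, h24, h30, b25, b27, b33, b28, b26, b34, b29, b41, b31, b35, y24, y30, h36] at h; linear_combination (norm := (ring_nf <;> simp [R.two, three R, four R])) h
    have y32 : y 14 = 0 := by
      have h := e 14; simp [mv_14, fv, a25, a27, a33, a28, a26, a34, a29, a41, a31, a35, h24, h30, h36, b25, b27, b33, b28, b26, b34, b29, b41, b31, b35, y24, y30, y36, h32] at h; linear_combination (norm := (ring_nf <;> simp [R.two, three R, four R])) h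
    have y37 : y 15 = 0 := by rw [(hy.fix θ P).f37, y32, map_zero]
    have y38 : y 16 = 0 := by
      have h := e 16; simp [mv_16, fv, a25, a27, a33, a28, a26, a34, a29, a41, a31, a35, h24, h30, h36, b25, b27, b33, b28, b26, b34, b29, b41, b31, b35, y24, y30, y36, h37, y37, h38] at h; linear_combination (norm := (ring_nf <;> simp [R.two, three R, four R])) h
    have y39 : y 18 = 0 := by
      have h := e 18; simp [mv_18, fv, a25, a27, a33, a28, a26, a34, a29, a41, a31, a35, h24, h30, h36, b25, b27, b33, b28, b26, b34, b29, b41, b31, b35, y24, y30, y36, h37, y37, h32, y32, h38, y38, h39] at h; linear_combination (norm := (ring_nf <;> simp [R.two, three R, four R])) h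
    have y40 : y 20 = x 20 := by
      have h := e 20; simp [mv_20, fv, a25, a27, a33, a28, a26, a34, a29, a41, a31, a35, h24, h30, h36, b25, b27, b33, b28, b26, b34, b29, b41, b31, b35, y24, y30, y36, h37, y37, h32, y32, h38, y38, h39, y39] at h; linear_combination (norm := (ring_nf <;> simp [R.two, three R, four R])) h
    have y44 : y 22 = 0 := by
      have h := e 22
      simp [mv_22, fv, a25, a27, a33, a28, a26, a34, a29, a41, a31, a35, h24, h30, h36, b25, b27, b33, b28, b26, b34, b29, b41, b31, b35, y24, y30, y36, h37, y37, h32, y32, h38, y38, h39, y39, y40, hr] at h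
      linear_combination (norm := (ring_nf <;> simp [R.two, three R, four R])) h + (div_mul_cancel₀ (x 22) h40)
    have fy := hy.fix θ P
    have y42 : y 13 = 0 := theta_eq_zero θ P (by simpa [y36, b26] using fy.f36.symm)
    have y43 : y 17 = 0 := theta_eq_zero θ P (by rw [← fy.f38, y38])
    have y45 : y 19 = 0 := theta_eq_zero θ P (by rw [← fy.f39, y39])
    have y47 : y 23 = 0 := theta_eq_zero θ P (by simpa [y44, b41] using fy.f44.symm)
    have hye := fix_eq θ fy
    rw [y24, b25, y30, b26, y42, b31, b41, y32, y43, y45, y47] at hye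
    have hz : y 21 ≠ 0 := by
      intro h0
      rw [fy.f40, h0, b31, map_zero, zero_mul, add_zero] at y40
      exact h40 y40.symm
    refine Or.inr (c1.trans ?_)
    rw [hye]
    exact (moveA_Z θ P _).trans (top_Z θ P hz)
  have hxe := fix_eq θ f
  rw [h24, a25, h30, a26, h42, a31, a41, h32, h43, h45, h46] at hxe
  right
  by_cases h47 : x 23 = 0
  · exfalso
    refine hx.2.2 ?_
    rw [hxe, h47]
    funext i
    fin_cases i <;> simp [fv]
  · rw [hxe]; exact top_Z θ P h47

theorem case_C {x : Fin 24 → K} (hx : Inv θ P x) (h24 : x 0 = 0) (h30 : x 5 = 0) :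
    IsA θ P x ∨ IsZ θ P x := by
  by_cases h36 : x 12 = 0
  · exact case_C2 θ P hx h24 h30 h36
  obtain ⟨a25, a27, a33, a28, a26, a34, a29, a41, a31, a35, a67⟩ := baseC θ P hx h24 h30
  have h37 : x 15 = 0 := (mul_eq_zero.1 a67).resolve_left h36
  have h32 : x 14 = 0 := theta_eq_zero θ P (by rw [← (hx.fix θ P).f37, h37])
  obtain ⟨r, hr⟩ := exists_theta θ P (x 16 / x 12)
  obtain ⟨y, hy, c1, e⟩ := step θ P hx (fix_fv θ 0 r 0 0 0 0 0 0 0 0 0 0)
  have y24 : y 0 = 0 := by
    have h := e 0; simp [mv_0, fv, h24] at h; linear_combination (norm := (ring_nf <;> simp [R.two, three R, four R])) h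
  have y30 : y 5 = 0 := by
    have h := e 5; simp [mv_5, fv, a25, a27, (base θ P hy).1, (base θ P hy).2.1, h30] at h; linear_combination (norm := (ring_nf <;> simp [R.two, three R, four R])) h
  obtain ⟨b25, b27, b33, b28, b26, b34, b29, b41, b31, b35, -⟩ := baseC θ P hy y24 y30
  have y36 : y 12 = x 12 := by
    have h := e 12; simp [mv_12, fv, a25, a27, a33, a28, a26, a34, a29, a41, a31, a35, h24, h30, b25, b27, b33, b28, b26, b34, b29, b41, b31, b35, y24, y30] at h; linear_combination (norm := (ring_nf <;> simp [R.two, three R, four R])) h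
  have y32 : y 14 = 0 := by
    have h := e 14; simp [mv_14, fv, a25, a27, a33, a28, a26, a34, a29, a41, a31, a35, h24, h30, b25, b27, b33, b28, b26, b34, b29, b41, b31, b35, y24, y30, h32] at h; linear_combination (norm := (ring_nf <;> simp [R.two, three R, four R])) h
  have y37 : y 15 = 0 := by rw [(hy.fix θ P).f37, y32, map_zero]
  have y38 : y 16 = 0 := by
    have h := e 16
    simp [mv_16, fv, a25, a27, a33, a28, a26, a34, a29, a41, a31, a35, h24, h30, b25, b27, b33, b28, b26, b34, b29, b41, b31, b35, y24, y30, h37, y37, h32, y32, y36, hr] at h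
    linear_combination (norm := (ring_nf <;> simp [R.two, three R, four R])) h + (div_mul_cancel₀ (x 16) h36)
  have h36 : y 12 ≠ 0 := by rw [y36]; exact h36
  clear e a25 a27 a33 a28 a26 a34 a29 a41 a31 a35
  clear y36 hr r
  obtain ⟨r, hr⟩ := exists_theta θ P (y 18 / y 12)
  obtain ⟨z, hz, c2, e⟩ := step θ P hy (fix_fv θ 0 0 r 0 0 0 0 0 0 0 0 0)
  have z24 : z 0 = 0 := by
    have h := e 0; simp [mv_0, fv, y24] at h; linear_combination (norm := (ring_nf <;> simp [R.two, three R, four R])) h
  have z30 : z 5 = 0 := by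
    have h := e 5; simp [mv_5, fv, b25, b27, (base θ P hz).1, (base θ P hz).2.1, y30] at h; linear_combination (norm := (ring_nf <;> simp [R.two, three R, four R])) h
  obtain ⟨a25, a27, a33, a28, a26, a34, a29, a41, a31, a35, -⟩ := baseC θ P hz z24 z30
  have z36 : z 12 = y 12 := by
    have h := e 12; simp [mv_12, fv, b25, b27, b33, b28, b26, b34, b29, b41, b31, b35, y24, y30, a25, a27, a33, a28, a26, a34, a29, a41, a31, a35, z24, z30] at h; linear_combination (norm := (ring_nf <;> simp [R.two, three R, four R])) h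
  have z32 : z 14 = 0 := by
    have h := e 14; simp [mv_14, fv, b25, b27, b33, b28, b26, b34, b29, b41, b31, b35, y24, y30, a25, a27, a33, a28, a26, a34, a29, a41, a31, a35, z24, z30, y32] at h; linear_combination (norm := (ring_nf <;> simp [R.two, three R, four R])) h
  have z37 : z 15 = 0 := by rw [(hz.fix θ P).f37, z32, map_zero]
  have z38 : z 16 = 0 := by
    have h := e 16; simp [mv_16, fv, b25, b27, b33, b28, b26, b34, b29, b41, b31, b35, y24, y30, a25, a27, a33, a28, a26, a34, a29, a41, a31, a35, z24, z30, y37, z37, y32, z32, z36, y38] at h; linear_combination (norm := (ring_nf <;> simp [R.two, three R, four R])) h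
  have z39 : z 18 = 0 := by
    have h := e 18
    simp [mv_18, fv, b25, b27, b33, b28, b26, b34, b29, b41, b31, b35, y24, y30, a25, a27, a33, a28, a26, a34, a29, a41, a31, a35, z24, z30, y37, z37, y32, z32, y38, z38, z36, hr] at h
    linear_combination (norm := (ring_nf <;> simp [R.two, three R, four R])) h + (div_mul_cancel₀ (y 18) h36)
  have h36 : z 12 ≠ 0 := by rw [z36]; exact h36
  clear e b25 b27 b33 b28 b26 b34 b29 b41 b31 b35
  clear z36 y38 hr r
  obtain ⟨r, hr⟩ := exists_quad θ P (z 20 / z 12)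
  obtain ⟨y, hy, c3, e⟩ := step θ P hz (fix_fv θ 0 r 0 0 0 0 0 0 0 0 0 0)
  have y24 : y 0 = 0 := by
    have h := e 0; simp [mv_0, fv, z24] at h; linear_combination (norm := (ring_nf <;> simp [R.two, three R, four R])) h
  have y30 : y 5 = 0 := by
    have h := e 5; simp [mv_5, fv, a25, a27, (base θ P hy).1, (base θ P hy).2.1, z30] at h; linear_combination (norm := (ring_nf <;> simp [R.two, three R, four R])) h
  obtain ⟨b25, b27, b33, b28, b26, b34, b29, b41, b31, b35, -⟩ := baseC θ P hy y24 y30
  have y36 : y 12 = z 12 := by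
    have h := e 12; simp [mv_12, fv, a25, a27, a33, a28, a26, a34, a29, a41, a31, a35, z24, z30, b25, b27, b33, b28, b26, b34, b29, b41, b31, b35, y24, y30] at h; linear_combination (norm := (ring_nf <;> simp [R.two, three R, four R])) h
  have y32 : y 14 = 0 := by
    have h := e 14; simp [mv_14, fv, a25, a27, a33, a28, a26, a34, a29, a41, a31, a35, z24, z30, b25, b27, b33, b28, b26, b34, b29, b41, b31, b35, y24, y30, z32] at h; linear_combination (norm := (ring_nf <;> simp [R.two, three R, four R])) h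
  have y37 : y 15 = 0 := by rw [(hy.fix θ P).f37, y32, map_zero]
  have y38 : y 16 = θ r * z 12 := by
    have h := e 16
    simp [mv_16, fv, a25, a27, a33, a28, a26, a34, a29, a41, a31, a35, z24, z30, b25, b27, b33, b28, b26, b34, b29, b41, b31, b35, y24, y30, y37, z37, y32, z32, z38, y36] at h
    linear_combination (norm := (ring_nf <;> simp [R.two, four R])) h
  have y39 : y 18 = 0 := by
    have h := e 18
    simp [mv_18, fv, a25, a27, a33, a28, a26, a34, a29, a41, a31, a35, z24, z30, b25, b27, b33, b28, b26, b34, b29, b41, b31, b35, y24, y30, y37, z37, y32, z32, z38, y38, z39, y36] at h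
    linear_combination (norm := (ring_nf <;> simp [R.two, four R])) h
  have y40 : y 20 = 0 := by
    have h := e 20
    simp [mv_20, fv, a25, a27, a33, a28, a26, a34, a29, a41, a31, a35, z24, z30, b25, b27, b33, b28, b26, b34, b29, b41, b31, b35, y24, y30, y37, z37, y32, z32, z38, y38, z39, y39, y36] at h
    have h2 : θ r * θ r * r * z 12 = z 20 := by rw [hr, div_mul_cancel₀ _ h36]
    linear_combination (norm := (ring_nf <;> simp [R.two, three R, four R])) h + h2
  have fy := hy.fix θ P
  have y46 : y 21 = 0 := theta_eq_zero θ P (by simpa [y40, b31] using fy.f40.symm)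
  have hye := fix_eq θ fy
  rw [y24, b25, y30, b26, b31, b41, y32, y46] at hye
  set v := y 13
  set e' := y 17
  set h' := y 19
  set w := y 23
  obtain ⟨n, hn, hc⟩ := moveB_C θ P v e' h' w
  have hyi : Inv θ P (fv θ 0 0 0 0 0 0 0 0 h' e' v w) := by
    refine ⟨P.mem _ (fix_fv θ _ _ _ _ _ _ _ _ _ _ _ _), ?_, ?_⟩
    · rw [← hc, ← hye, conj_mul, hy.2.1, mul_one, mul_inv_cancel]
    · intro h0
      rw [h0, W_zero R, mul_inv_eq_one, mul_eq_left, ← hye] at hc
      exact hy.2.2 (P.inj _ _ (by rw [hc, W_zero R]))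
  have hcj : Cj H (W R x) (W R (fv θ 0 0 0 0 0 0 0 0 h' e' v w)) :=
    c1.trans (c2.trans (c3.trans (by rw [hye]; exact ⟨n, hn, hc⟩)))
  exact (case_C2 θ P hyi rfl rfl (by simp [fv])).imp hcj.trans hcj.trans

theorem case_B {x : Fin 24 → K} (hx : Inv θ P x) (h24 : x 0 = 0) (h30 : x 5 ≠ 0) :
    IsA θ P x ∨ IsZ θ P x := by
  have baseB : ∀ {x : Fin 24 → K}, Inv θ P x → x 0 = 0 → x 5 ≠ 0 →
      x 2 = 0 ∧ x 3 = 0 ∧ x 1 = 0 ∧ x 4 ≠ 0 ∧ x 6 = 0 ∧ x 7 = 0 := by
    intro x hx h24 h30
    obtain ⟨h25, h27, h28, h33⟩ := base θ P hx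
    rw [h24, map_zero] at h33
    have h26 : x 6 = 0 := by
      have h := hx.sq θ P 14
      simp [mv_14, h24, h25, h27, h33] at h
      refine (mul_eq_zero.1 (?_ : x 6 * x 5 = 0)).resolve_right h30
      linear_combination h - x 14 * R.two
    exact ⟨h25, h27, h33, by rw [h28]; simpa using h30, h26, by rw [(hx.fix θ P).f34, h26, map_zero]⟩
  have baseB2 : ∀ {x : Fin 24 → K}, Inv θ P x → x 0 = 0 → x 5 ≠ 0 → x 10 = 0 →
      x 11 = 0 ∧ x 12 = 0 ∧ x 13 = 0 ∧ x 8 = 0 ∧ x 9 = 0 ∧ x 16 = 0 ∧ x 17 = 0 := by
    intro x hx h24 h30 h29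
    obtain ⟨h25, h27, h33, h28, h26, h34⟩ := baseB hx h24 h30
    have f := hx.fix θ P
    have h41 : x 11 = 0 := theta_eq_zero θ P (by rw [← f.f29, h29])
    have h36 : x 12 = 0 := by
      have h := hx.sq θ P 18
      simp [mv_18, h24, h25, h27, h33, h26, h34, h29] at h
      refine (mul_eq_zero.1 (?_ : x 12 * x 4 = 0)).resolve_right h28
      linear_combination h - x 18 * R.two
    have h42 : x 13 = 0 := theta_eq_zero θ P (by simpa [h36, h26] using f.f36.symm)
    have q40 := hx.sq θ P 20
    simp [mv_20, h24, h25, h27, h33, h26, h34, h29, h36] at q40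
    have q44 := hx.sq θ P 22
    simp [mv_22, h24, h25, h27, h33, h26, h34, h29, h36, h42, h41] at q44
    have q40' : x 4 * x 16 + x 8 * x 9 = 0 := by linear_combination q40 - x 20 * R.two
    have q44' : x 9 * x 16 = 0 := by linear_combination q44 - x 22 * R.two
    have h31 : x 8 = 0 := by
      by_contra h0
      have h35 : x 9 ≠ 0 := by rw [f.f35]; simpa using h0
      simp [(mul_eq_zero.1 q44').resolve_left h35, h0, h35] at q40'
    have h35 : x 9 = 0 := by rw [f.f35, h31, map_zero]
    have h38 : x 16 = 0 := by simpa [h31, h28] using q40'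
    exact ⟨h41, h36, h42, h31, h35, h38, theta_eq_zero θ P (by rw [← f.f38, h38])⟩
  obtain ⟨a25, a27, a33, a28, a26, a34⟩ := baseB hx h24 h30
  obtain ⟨y, hy, c1, e⟩ := step θ P hx (fix_fv θ (x 10 / x 4) 0 0 0 0 0 0 0 0 0 0 0)
  have y24 : y 0 = 0 := by
    have h := e 0; simp [mv_0, fv, h24] at h; linear_combination (norm := (ring_nf <;> simp [R.two, three R, four R])) h
  have y30 : y 5 = x 5 := by
    have h := e 5; simp [mv_5, fv, a25, a27] at h; linear_combination (norm := (ring_nf <;> simp [R.two, three R, four R])) h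
  have hy30 : y 5 ≠ 0 := by rw [y30]; exact h30
  obtain ⟨b25, b27, b33, b28, b26, b34⟩ := baseB hy y24 hy30
  have y28 : y 4 = x 4 := by
    have h := e 4; simp [mv_4, fv, a25, a27, b25, b27] at h; linear_combination (norm := (ring_nf <;> simp [R.two, three R, four R])) h
  have y29 : y 10 = 0 := by
    have h := e 10
    simp [mv_10, fv, a25, a27, a26, b25, b27, b26, h24, y24, y28] at h
    linear_combination (norm := (ring_nf <;> simp [R.two, three R, four R])) h + (div_mul_cancel₀ (x 10) a28)
  clear e a25 a27 a33 a28 a26 a34 y28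
  obtain ⟨b41, b36, b42, b31, b35, b38, b43⟩ := baseB2 hy y24 hy30 y29
  obtain ⟨z, hz, c2, e⟩ := step θ P hy (fix_fv θ 0 0 0 (y 14 / y 5) 0 0 0 0 0 0 0 0)
  have z24 : z 0 = 0 := by
    have h := e 0; simp [mv_0, fv, y24] at h; linear_combination (norm := (ring_nf <;> simp [R.two, three R, four R])) h
  have z30 : z 5 = y 5 := by
    have h := e 5; simp [mv_5, fv, b25, b27] at h; linear_combination (norm := (ring_nf <;> simp [R.two, three R, four R])) h
  have hz30 : z 5 ≠ 0 := by rw [z30]; exact hy30
  obtain ⟨a25, a27, a33, a28, a26, a34⟩ := baseB hz z24 hz30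
  have z29 : z 10 = 0 := by
    have h := e 10; simp [mv_10, fv, a25, a27, b25, b27, a26, b26, y24, z24, y29] at h; linear_combination (norm := (ring_nf <;> simp [R.two, three R, four R])) h
  obtain ⟨a41, a36, a42, a31, a35, a38, a43⟩ := baseB2 hz z24 hz30 z29
  have z32 : z 14 = 0 := by
    have h := e 14
    simp [mv_14, fv, a25, a27, b25, b27, a26, b26, y24, z24, a31, b31, z30] at h
    linear_combination (norm := (ring_nf <;> simp [R.two, three R, four R])) h + (div_mul_cancel₀ (y 14) hy30)
  clear e b25 b27 b33 b28 b26 b34 b41 b36 b42 b31 b35 b38 b43 y29 z30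
  obtain ⟨r, hr⟩ := exists_theta θ P (z 18 / z 4)
  obtain ⟨y, hy, c3, e⟩ := step θ P hz (fix_fv θ 0 0 0 0 r 0 0 0 0 0 0 0)
  have y24 : y 0 = 0 := by
    have h := e 0; simp [mv_0, fv, z24] at h; linear_combination (norm := (ring_nf <;> simp [R.two, three R, four R])) h
  have y30 : y 5 = z 5 := by
    have h := e 5; simp [mv_5, fv, a25, a27] at h; linear_combination (norm := (ring_nf <;> simp [R.two, three R, four R])) h
  have hy30 : y 5 ≠ 0 := by rw [y30]; exact hz30
  obtain ⟨b25, b27, b33, b28, b26, b34⟩ := baseB hy y24 hy30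
  have y28 : y 4 = z 4 := by
    have h := e 4; simp [mv_4, fv, a25, a27, b25, b27] at h; linear_combination (norm := (ring_nf <;> simp [R.two, three R, four R])) h
  have y29 : y 10 = 0 := by
    have h := e 10; simp [mv_10, fv, a25, a27, b25, b27, a26, b26, y24, z24, z29] at h; linear_combination (norm := (ring_nf <;> simp [R.two, three R, four R])) h
  obtain ⟨b41, b36, b42, b31, b35, b38, b43⟩ := baseB2 hy y24 hy30 y29
  have z37 : z 15 = 0 := by rw [(hz.fix θ P).f37, z32, map_zero]
  have y32 : y 14 = 0 := by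
    have h := e 14; simp [mv_14, fv, a25, a27, b25, b27, a26, b26, y24, z24, a31, b31, z32] at h; linear_combination (norm := (ring_nf <;> simp [R.two, three R, four R])) h
  have y37 : y 15 = 0 := by rw [(hy.fix θ P).f37, y32, map_zero]
  have y39 : y 18 = 0 := by
    have h := e 18
    simp [mv_18, fv, a25, a27, a33, a26, a34, a36, a31, a35, a38, b25, b27, b33, b26, b34, b36, b31, b35, b38,
      z24, y24, z29, y29, z32, y32, z37, y37, y28, hr] at h
    linear_combination (norm := (ring_nf <;> simp [R.two, three R, four R])) h + (div_mul_cancel₀ (z 18) a28)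
  clear e a25 a27 a33 a28 a26 a34 a41 a36 a42 a31 a35 a38 a43 z29 z32 z37 y28 y30 hr r
  obtain ⟨r, hr⟩ := exists_theta θ P (y 20 / y 4)
  obtain ⟨z, hz, c4, e⟩ := step θ P hy (fix_fv θ 0 0 0 0 0 0 0 0 r 0 0 0)
  have z24 : z 0 = 0 := by
    have h := e 0; simp [mv_0, fv, y24] at h; linear_combination (norm := (ring_nf <;> simp [R.two, three R, four R])) h
  have z30 : z 5 = y 5 := by
    have h := e 5; simp [mv_5, fv, b25, b27] at h; linear_combination (norm := (ring_nf <;> simp [R.two, three R, four R])) h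
  have hz30 : z 5 ≠ 0 := by rw [z30]; exact hy30
  obtain ⟨a25, a27, a33, a28, a26, a34⟩ := baseB hz z24 hz30
  have z28 : z 4 = y 4 := by
    have h := e 4; simp [mv_4, fv, a25, a27, b25, b27] at h; linear_combination (norm := (ring_nf <;> simp [R.two, three R, four R])) h
  have z29 : z 10 = 0 := by
    have h := e 10; simp [mv_10, fv, a25, a27, b25, b27, a26, b26, y24, z24, y29] at h; linear_combination (norm := (ring_nf <;> simp [R.two, three R, four R])) h
  obtain ⟨a41, a36, a42, a31, a35, a38, a43⟩ := baseB2 hz z24 hz30 z29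
  have z32 : z 14 = 0 := by
    have h := e 14; simp [mv_14, fv, a25, a27, b25, b27, a26, b26, y24, z24, a31, b31, y32] at h; linear_combination (norm := (ring_nf <;> simp [R.two, three R, four R])) h
  have z37 : z 15 = 0 := by rw [(hz.fix θ P).f37, z32, map_zero]
  have z39 : z 18 = 0 := by
    have h := e 18
    simp [mv_18, fv, a25, a27, a33, a26, a34, a36, a31, a35, a38, b25, b27, b33, b26, b34, b36, b31, b35, b38, z24, y24, z29, y29, z32, y32, z37, y37, y39] at h; linear_combination (norm := (ring_nf <;> simp [R.two, three R, four R])) h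
  have z40 : z 20 = 0 := by
    have h := e 20
    simp [mv_20, fv, a25, a27, a33, a26, a34, a36, a31, a35, a38, b25, b27, b33, b26, b34, b36, b31, b35, b38,
      z24, y24, z29, y29, z32, y32, z37, y37, y39, z39, z28, z30, hr] at h
    linear_combination (norm := (ring_nf <;> simp [R.two, three R, four R])) h + (div_mul_cancel₀ (y 20) b28)
  have fz := hz.fix θ P
  have z45 : z 19 = 0 := theta_eq_zero θ P (by rw [← fz.f39, z39])
  have z46 : z 21 = 0 := theta_eq_zero θ P (by simpa [z40, a31] using fz.f40.symm)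
  have hze := fix_eq θ fz
  rw [z24, a25, a26, a42, a31, a41, z32, a43, z45, z46] at hze
  set u := z 5
  set w := z 23
  obtain ⟨n, hn, hc⟩ := moveA_B θ P u w
  have hi : Inv θ P (fv θ 0 0 0 0 u 0 0 0 0 0 w 0) := by
    refine ⟨P.mem _ (fix_fv θ _ _ _ _ _ _ _ _ _ _ _ _), ?_, ?_⟩
    · rw [← hc, ← hze, conj_mul, hz.2.1, mul_one, mul_inv_cancel]
    · intro h0
      rw [h0, W_zero R, mul_inv_eq_one, mul_eq_left, ← hze] at hc
      exact hz.2.2 (P.inj _ _ (by rw [hc, W_zero R]))
  have hcj : Cj H (W R x) (W R (fv θ 0 0 0 0 u 0 0 0 0 0 w 0)) :=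
    c1.trans (c2.trans (c3.trans (c4.trans (by rw [hze]; exact ⟨n, hn, hc⟩))))
  exact (case_C θ P hi rfl rfl).imp hcj.trans hcj.trans

/-- every fixed involution is conjugate to one of the two representatives -/
theorem classify {x : Fin 24 → K} (hx : Inv θ P x) : IsA θ P x ∨ IsZ θ P x := by
  by_cases h24 : x 0 = 0
  · by_cases h30 : x 5 = 0
    · exact case_C θ P hx h24 h30
    · exact case_B θ P hx h24 h30
  · exact Or.inl (case_A θ P hx h24)

end CfsgLib.ReeF4Invol
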