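import Cfsg.Agent.Lib.ReeF4Invol.Abstract

/-!
The product with each pair of roots interchanged, in normal form.
-/

set_option autoImplicit false
set_option linter.unusedSimpArgs false
set_option linter.unreachableTactic false
set_option linter.unusedTactic false
set_option maxHeartbeats 2000000
set_option maxRecDepth 4000

namespace CfsgLib.ReeF4Invol

universe u v

variable {K : Type u} [Field K] {G : Type v} [Group G] {X : Fin 24 → K → G} (R : Rel X)
include R

theorem W_perm (p : Fin 24 → K) :
    X 1 (p 0) * (X 0 (p 1) * (X 3 (p 2) * (X 2 (p 3) * (X 5 (p 4) * (X 4 (p 5) * (X 7 (p 6) * (X 6 (p 7) * (X 9 (p 8) * (X 8 (p 9) * (X 11 (p 10) * (X 10 (p 11) * (X 13 (p 12) * (X 12 (p 13) * (X 15 (p 14) * (X 14 (p 15) * (X 17 (p 16) * (X 16 (p 17) * (X 19 (p 18) * (X 18 (p 19) * (X 21 (p 20) * (X 20 (p 21) * (X 23 (p 22) * (X 22 (p 23) * 1))))))))))))))))))))))) = W R ![p 1, p 0, p 3, p 2, p 5 + p 2 * p 3, p 4 + p 2 * p 2 * p 3, p 7, p 6, p 9, p 8, p 11, p 10, p 13 + p 6 * p 7, p 12 + p 6 * p 6 * p 7, p 15, p 14, p 17, p 16, p 19, p 18, p 21 + p 8 * p 9, p 20 + p 8 * p 8 * p 9, p 23 + p 10 * p 11, p 22 + p 10 * p 11 * p 11] := by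
  simp (disch := decide) only [W, mul_assoc, one_mul, s0_2 R, s0_5 R, s0_11 R, s0_21 R, s1_3 R, s1_4 R, s1_10 R, s1_20 R, s2_8 R, s2_13 R, s2_19 R, s3_9 R, s3_12 R, s3_18 R, s4_7 R, s4_12 R, s4_16 R, s5_6 R, s5_13 R, s5_17 R, s6_11 R, s6_19 R, s7_10 R, s7_18 R, s8_11 R, s8_17 R, s9_10 R, s9_16 R, s10_15 R, s11_14 R, s12_15 R, s13_14 R, s0_4 R, s0_9 R, s0_15 R, s1_5 R, s1_8 R, s1_14 R, s2_3 R, s2_7 R, s2_16 R, s3_6 R, s3_17 R, s4_13 R, s5_12 R, s6_7 R, s6_15 R, s7_14 R, s8_9 R, s10_11 R, merge R, pass R, Matrix.cons_val,
    Matrix.cons_val_zero, Matrix.cons_val_one]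
  simp only [pass R (i := 0) (j := 1) (by decide) (by decide), pass R (i := 4) (j := 5) (by decide) (by decide), pass R (i := 8) (j := 10) (by decide) (by decide), pass R (i := 8) (j := 12) (by decide) (by decide), pass R (i := 8) (j := 13) (by decide) (by decide), pass R (i := 8) (j := 14) (by decide) (by decide), pass R (i := 8) (j := 15) (by decide) (by decide), pass R (i := 8) (j := 16) (by decide) (by decide), pass R (i := 8) (j := 18) (by decide) (by decide), pass R (i := 8) (j := 19) (by decide) (by decide), pass R (i := 8) (j := 20) (by decide) (by decide), pass R (i := 8) (j := 21) (by decide) (by decide), pass R (i := 8) (j := 22) (by decide) (by decide), pass R (i := 8) (j := 23) (by decide) (by decide), pass R (i := 9) (j := 11) (by decide) (by decide), pass R (i := 9) (j := 12) (by decide) (by decide), pass R (i := 9) (j := 13) (by decide) (by decide), pass R (i := 9) (j := 14) (by decide) (by decide), pass R (i := 9) (j := 15) (by decide) (by decide), pass R (i := 9) (j := 17) (by decide) (by decide), pass R (i := 9) (j := 18) (by decide) (by decide), pass R (i := 9) (j := 19) (by decide) (by decide), pass R (i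 := 9) (j := 20) (by decide) (by decide), pass R (i := 9) (j := 21) (by decide) (by decide), pass R (i := 9) (j := 22) (by decide) (by decide), pass R (i := 9) (j := 23) (by decide) (by decide), pass R (i := 10) (j := 12) (by decide) (by decide), pass R (i := 10) (j := 13) (by decide) (by decide), pass R (i := 10) (j := 14) (by decide) (by decide), pass R (i := 10) (j := 16) (by decide) (by decide), pass R (i := 10) (j := 17) (by decide) (by decide), pass R (i := 10) (j := 18) (by decide) (by decide), pass R (i := 10) (j := 19) (by decide) (by decide), pass R (i := 10) (j := 20) (by decide) (by decide), pass R (i := 10) (j := 21) (by decide) (by decide), pass R (i := 10) (j := 22) (by decide) (by decide), pass R (i := 10) (j := 23) (by decide) (by decide), pass R (i := 11) (j := 12) (by decide) (by decide), pass R (i := 11) (j := 13) (by decide) (by decide), pass R (i := 11) (j := 15) (by decide) (by decide), pass R (i := 11) (j := 16) (by decide) (by decide), pass R (i := 11) (j := 17) (by decide) (by decide), pass R (i := 11) (j := 18) (by decide) (by decide), pass R (i := 11) (j := 19) (by decide) (by decide), pass R (i :=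 11) (j := 20) (by decide) (by decide), pass R (i := 11) (j := 21) (by decide) (by decide), pass R (i := 11) (j := 22) (by decide) (by decide), pass R (i := 11) (j := 23) (by decide) (by decide), pass R (i := 12) (j := 13) (by decide) (by decide), pass R (i := 12) (j := 14) (by decide) (by decide), pass R (i := 12) (j := 16) (by decide) (by decide), pass R (i := 12) (j := 17) (by decide) (by decide), pass R (i := 12) (j := 18) (by decide) (by decide), pass R (i := 12) (j := 19) (by decide) (by decide), pass R (i := 12) (j := 20) (by decide) (by decide), pass R (i := 12) (j := 21) (by decide) (by decide), pass R (i := 12) (j := 22) (by decide) (by decide), pass R (i := 12) (j := 23) (by decide) (by decide), pass R (i := 13) (j := 15) (by decide) (by decide), pass R (i := 13) (j := 16) (by decide) (by decide), pass R (i := 13) (j := 17) (by decide) (by decide), pass R (i := 13) (j := 18) (by decide) (by decide), pass R (i := 13) (j := 19) (by decide) (by decide), pass R (i := 13) (j := 20) (by decide) (by decide), pass R (i := 13) (j := 21) (by decide) (by decide), pass R (i := 13) (j := 22) (by decide) (by decide), pass R (i :=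 13) (j := 23) (by decide) (by decide), pass R (i := 14) (j := 15) (by decide) (by decide), pass R (i := 14) (j := 16) (by decide) (by decide), pass R (i := 14) (j := 17) (by decide) (by decide), pass R (i := 14) (j := 18) (by decide) (by decide), pass R (i := 14) (j := 19) (by decide) (by decide), pass R (i := 14) (j := 20) (by decide) (by decide), pass R (i := 14) (j := 21) (by decide) (by decide), pass R (i := 14) (j := 22) (by decide) (by decide), pass R (i := 14) (j := 23) (by decide) (by decide), pass R (i := 15) (j := 16) (by decide) (by decide), pass R (i := 15) (j := 17) (by decide) (by decide), pass R (i := 15) (j := 18) (by decide) (by decide), pass R (i := 15) (j := 19) (by decide) (by decide), pass R (i := 15) (j := 20) (by decide) (by decide), pass R (i := 15) (j := 21) (by decide) (by decide), pass R (i := 15) (j := 22) (by decide) (by decide), pass R (i := 15) (j := 23) (by decide) (by decide), pass R (i := 16) (j := 17) (by decide) (by decide), pass R (i := 16) (j := 18) (by decide) (by decide), pass R (i := 16) (j := 19) (by decide) (by decide), pass R (i := 16) (j := 20) (by decide) (by decide), pass R (i :=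 16) (j := 21) (by decide) (by decide), pass R (i := 16) (j := 22) (by decide) (by decide), pass R (i := 16) (j := 23) (by decide) (by decide), pass R (i := 17) (j := 18) (by decide) (by decide), pass R (i := 17) (j := 19) (by decide) (by decide), pass R (i := 17) (j := 20) (by decide) (by decide), pass R (i := 17) (j := 21) (by decide) (by decide), pass R (i := 17) (j := 22) (by decide) (by decide), pass R (i := 17) (j := 23) (by decide) (by decide), pass R (i := 18) (j := 19) (by decide) (by decide), pass R (i := 18) (j := 20) (by decide) (by decide), pass R (i := 18) (j := 21) (by decide) (by decide), pass R (i := 18) (j := 22) (by decide) (by decide), pass R (i := 18) (j := 23) (by decide) (by decide), pass R (i := 19) (j := 20) (by decide) (by decide), pass R (i := 19) (j := 21) (by decide) (by decide), pass R (i := 19) (j := 22) (by decide) (by decide), pass R (i := 19) (j := 23) (by decide) (by decide), pass R (i := 20) (j := 21) (by decide) (by decide), pass R (i := 20) (j := 22) (by decide) (by decide), pass R (i := 20) (j := 23) (by decide) (by decide), pass R (i := 21) (j := 22) (by decide) (by decide), pass R (i :=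 21) (j := 23) (by decide) (by decide), pass R (i := 22) (j := 23) (by decide) (by decide), merge R]
  ring_nf

end CfsgLib.ReeF4Invol
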