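import Cfsg.Agent.Lib.ReeF4Invol.Classify
import Cfsg.Agent.Lib.ReeF4Invol.Perm
import Cfsg.Agent.Lib.ReeF4Out.Torus
import Cfsg.Agent.Lib.Twisted.F4Bruhat
import Cfsg.Prelude.Def_ChevAutomorphisms

/-!
The two classes of involutions of `²F₄(q)`.
-/

set_option autoImplicit false
set_option linter.unusedSectionVars false
set_option linter.unusedSimpArgs false
set_option linter.unusedTactic false
set_option linter.unreachableTactic false
set_option maxHeartbeats 1000000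
set_option maxRecDepth 4000

namespace CfsgLib.ReeF4Invol

open Cfsg.Lie CfsgLib.Chev CfsgLib.ReeF4
open CfsgLib.ChevGraph (gX)

/-- the roots at the positions -/
def pos : Fin 24 → ℕ :=
  ![24, 33, 25, 27, 28, 30, 26, 34, 31, 35, 29, 41, 36, 42, 32, 37, 38, 43, 39, 45, 40, 46, 44, 47]

/-- the position of the image root -/
def swp : Fin 24 → Fin 24 :=
  ![1, 0, 3, 2, 5, 4, 7, 6, 9, 8, 11, 10, 13, 12, 15, 14, 17, 16, 19, 18, 21, 20, 23, 22]

theorem pos_lt : ∀ i, pos i < chevF4.nroots ∧ chevF4.nroots / 2 ≤ pos i := by decide +kernel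

theorem pos_surj : ∀ r : Fin 48, 24 ≤ r.val → ∃ i, pos i = r.val := by decide +kernel

theorem pos_inj : ∀ i j, pos i = pos j → i = j := by decide +kernel

/-- the terms with odd coefficient -/
def oddTerms (r s : ℕ) : List (ℕ × ℕ × ℕ) :=
  ((chevF4.commTerms r s).filter fun c => c.2.1 % 2 != 0).map fun c => (c.1, c.2.2)

theorem pair_tbl : ∀ i j : Fin 24, i < j → pos j ≠ pos i ∧ pos j ≠ chevF4.neg (pos i) ∧
    ∀ c ∈ chevF4.commTerms (pos i) (pos j), c.1 < 48 := by decide +kernel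

theorem comm_tbl : ∀ i j : Fin 24, i < j → Plain i j → oddTerms (pos i) (pos j) = [] := by
  decide +kernel

theorem one_tbl_all : (onePairs.all fun p =>
    decide (p.1 < p.2.1) && (oddTerms (pos p.1) (pos p.2.1) == [(pos p.2.2, 1, 1)])) = true := by decide +kernel

theorem one_tbl : ∀ p ∈ onePairs, p.1 < p.2.1 ∧ oddTerms (pos p.1) (pos p.2.1) = [(pos p.2.2, 1, 1)] := by
  intro p hp
  simpa using List.all_eq_true.1 one_tbl_all p hp

theorem twoA_tbl_all : (pairsA.all fun p =>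
    decide (p.1 < p.2.1) && (oddTerms (pos p.1) (pos p.2.1) == [(pos p.2.2.1, 1, 1), (pos p.2.2.2, 1, 2)])) = true := by decide +kernel

theorem twoA_tbl : ∀ p ∈ pairsA, p.1 < p.2.1 ∧ oddTerms (pos p.1) (pos p.2.1) = [(pos p.2.2.1, 1, 1), (pos p.2.2.2, 1, 2)] := by
  intro p hp
  simpa using List.all_eq_true.1 twoA_tbl_all p hp

theorem twoB_tbl_all : (pairsB.all fun p =>
    decide (p.1 < p.2.1) && (oddTerms (pos p.1) (pos p.2.1) == [(pos p.2.2.1, 1, 1), (pos p.2.2.2, 2, 1)])) = true := by decide +kernel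

theorem twoB_tbl : ∀ p ∈ pairsB, p.1 < p.2.1 ∧ oddTerms (pos p.1) (pos p.2.1) = [(pos p.2.2.1, 1, 1), (pos p.2.2.2, 2, 1)] := by
  intro p hp
  simpa using List.all_eq_true.1 twoB_tbl_all p hp

theorem rho_tbl : ∀ i, rho (pos i) = pos (swp i) ∧
    rexp (pos i) = if i ∈ [(0 : Fin 24), 2, 5, 6, 8, 11, 13, 14, 17, 19, 21, 23] then 1 else 2 := by
  decide +kernel

theorem wA_tbl : ∀ p ∈ piA, sigs chevF4 tb (jl false) (pos p.1) = pos p.2 := by decide +kernel

theorem wB_tbl : ∀ p ∈ piB, sigs chevF4 tb (jl true) (pos p.1) = pos p.2 := by decide +kernel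

theorem e1_tbl : CfsgLib.ReeF4Out.e1 24 = (0, 2) ∧ CfsgLib.ReeF4Out.e1 33 = (2, 0) ∧
    CfsgLib.ReeF4Out.e1 30 = (-2, -1) ∧ CfsgLib.ReeF4Out.e1 28 = (-1, -1) := by decide +kernel

theorem pairing_refl : ∀ i : Fin chevF4.rank, ∀ r s : Fin 48,
    chevF4.pairing (chevF4.reflectRoot i.val r) (chevF4.reflectRoot i.val s) = chevF4.pairing r s := by
  decide +kernel

theorem pairing_tbl : chevF4.pairing 44 47 ≠ 0 ∧ chevF4.pairing 24 33 = 0 ∧ chevF4.pairing 33 24 = 0 := by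
  decide +kernel

theorem pairing_sigs (L : List (Fin chevF4.rank)) {r s : ℕ} (hr : r < 48) (hs : s < 48) :
    chevF4.pairing (sigs chevF4 tb L r) (sigs chevF4 tb L s) = chevF4.pairing r s := by
  induction L with
  | nil => rfl
  | cons i L ih =>
    have h1 := sigs_lt hc L (show r < chevF4.nroots from hr)
    have h2 := sigs_lt hc L (show s < chevF4.nroots from hs)
    rw [sigs_cons, sigs_cons, ← reflectRoot_eq hc i h1, ← reflectRoot_eq hc i h2]
    exact (pairing_refl i ⟨_, h1⟩ ⟨_, h2⟩).trans ih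

variable {K : Type*} [Field K] [CharP K 2]

theorem cast_coef (e : ℤ) : (e : K) = if e % 2 = 0 then 0 else 1 := by
  rcases Int.even_or_odd' e with ⟨d, rfl | rfl⟩ <;> simp [CharTwo.two_eq_zero]

variable (K) in
/-- the root elements at the positions -/
noncomputable def rootX (i : Fin 24) (t : K) : GL chevF4.Idx K := elX chevF4 K (pos i) t

theorem word_odd {r s : ℕ} (hlt : ∀ c ∈ chevF4.commTerms r s, c.1 < 48) (t u : K) :
    wordGL chevF4 K (chevF4.commWord K r s t u) =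
      ((oddTerms r s).map fun c => elX chevF4 K c.1 (t ^ c.2.1 * u ^ c.2.2)).prod := by
  rw [wordGL, ChevalleyDatum.commWord, oddTerms]
  revert hlt
  generalize chevF4.commTerms r s = l
  intro hlt
  induction l with
  | nil => simp
  | cons c l ih =>
    rw [List.forall_mem_cons] at hlt
    obtain ⟨k, e, a, b⟩ := c
    have hk : k < chevF4.nroots := hlt.1
    rcases Int.emod_two_eq_zero_or_one e with he | he
    · rw [List.filter_cons_of_neg (by simp [he])]
      simp only [List.map_cons, List.prod_cons, ih hlt.2]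
      simp [cast_coef (K := K) e, he, elX_zero hc K hk]
    · rw [List.filter_cons_of_pos (by simp [he])]
      simp only [List.map_cons, List.prod_cons, ih hlt.2]
      simp [cast_coef (K := K) e, he, mul_assoc, CharTwo.neg_eq]

theorem swap_odd {i j : Fin 24} (h : i < j) (u t : K) :
    rootX K j u * rootX K i t = rootX K i t * (rootX K j u *
      ((oddTerms (pos i) (pos j)).map fun c => elX chevF4 K c.1 (t ^ c.2.1 * u ^ c.2.2)).prod) := by
  obtain ⟨h1, h2, h3⟩ := pair_tbl i j h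
  rw [rootX, rootX, elX_comm hc hcomm (pos_lt i).1 (pos_lt j).1 h1 h2 t u, word_odd h3, mul_assoc]

theorem rel : Rel (rootX K) where
  add i s t := elX_add hc K (pos_lt i).1 s t
  zero i := elX_zero hc K (pos_lt i).1
  two := CharTwo.two_eq_zero
  comm i j hij hp u t := by
    rw [swap_odd hij, comm_tbl i j hij hp]
    simp
  one i j k hp u t := by
    obtain ⟨h1, h2⟩ := one_tbl _ hp
    rw [swap_odd h1, h2]
    simp [rootX]
  twoA i j k l hp u t := by
    obtain ⟨h1, h2⟩ := twoA_tbl _ hp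
    rw [swap_odd h1, h2]
    simp [rootX, sq]
  twoB i j k l hp u t := by
    obtain ⟨h1, h2⟩ := twoB_tbl _ hp
    rw [swap_odd h1, h2]
    simp [rootX, sq]

theorem W_single (i : Fin 24) (t : K) : W (rel (K := K)) (Pi.single i t) = rootX K i t := by
  fin_cases i <;> simp [W, (rel (K := K)).zero]

theorem W_mem_posU (x : Fin 24 → K) : W (rel (K := K)) x ∈ uGen chevF4 K PosR := by
  have h : ∀ i t, rootX K i t ∈ uGen chevF4 K PosR :=
    fun i t => elX_mem_uGen (pos_lt i).1 (pos_lt i).2 t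
  unfold W
  repeat' first | apply mul_mem | exact h _ _ | exact one_mem _

variable [Fintype K]

variable (K) in
/-- the set of normal forms as a subgroup -/
noncomputable def normalForms : Subgroup (GL chevF4.Idx K) :=
  let M : Submonoid (GL chevF4.Idx K) :=
    { carrier := Set.range (W (rel (K := K)))
      one_mem' := ⟨0, W_zero _⟩
      mul_mem' := by rintro _ _ ⟨x, rfl⟩ ⟨y, rfl⟩; exact ⟨mv x y, (W_mul _ x y).symm⟩ }
  { M with
    inv_mem' := fun {g} hg => by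
      rw [show g⁻¹ = g ^ (orderOf g - 1) from inv_eq_of_mul_eq_one_right (by
        rw [← pow_succ', Nat.sub_add_cancel (orderOf_pos g), pow_orderOf_eq_one])]
      exact Submonoid.pow_mem M hg _ }

theorem posU_le : uGen chevF4 K PosR ≤ normalForms K := by
  rw [uGen_le_iff]
  intro r hr hp t
  obtain ⟨i, hi⟩ := pos_surj ⟨r, hr⟩ hp
  exact ⟨Pi.single i t, by rw [W_single, rootX, hi]⟩

theorem W_injective : Function.Injective (W (rel (K := K))) := by
  classical
  let L := rootsFrom chevF4 PosR 0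
  let ext' : (Fin 24 → K) → ℕ → K := fun y r => ∑ i, if pos i = r then y i else 0
  have hext : ∀ (y : Fin 24 → K) i, ext' y (pos i) = y i := fun y i => by
    show (∑ j, if pos j = pos i then y j else 0) = y i
    rw [Finset.sum_eq_single i (fun j _ hj => if_neg (fun e => hj (pos_inj _ _ e)))
      (fun h => absurd (Finset.mem_univ i) h), if_pos rfl]
  have hmem : ∀ y, ∃ x, W (rel (K := K)) x = uProd chevF4 K L (ext' y) := fun y => posU_le (by
    rw [uProd]
    refine Subgroup.list_prod_mem _ fun z hz => ?_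
    obtain ⟨r, hr, rfl⟩ := List.mem_map.1 hz
    exact elX_mem_uGen (mem_rootsFrom.1 hr).2.1 (mem_rootsFrom.1 hr).2.2 _)
  choose f hf using hmem
  have finj : Function.Injective f := fun y y' e => by
    have h := uProd_inj hc (fun r _ h => h) 0 (show uProd chevF4 K L (ext' y) = uProd chevF4 K L (ext' y') by
      rw [← hf, ← hf, e])
    funext i
    rw [← hext y i, ← hext y' i]
    exact h _ (mem_rootsFrom.2 ⟨Nat.zero_le _, pos_lt i⟩)
  intro a b h
  obtain ⟨y, rfl⟩ := (Finite.injective_iff_surjective.1 finj) a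
  obtain ⟨y', rfl⟩ := (Finite.injective_iff_surjective.1 finj) b
  have e := uProd_inj hc (fun r _ h => h) 0 ((hf y).symm.trans (h.trans (hf y')))
  congr 1
  funext i
  rw [← hext y i, ← hext y' i]
  exact e _ (mem_rootsFrom.2 ⟨Nat.zero_le _, pos_lt i⟩)

variable {m : ℕ} {σ : MulAut ↥(chevF4.group K)} (hσ : IsSigma m σ)
include hσ

theorem theta_cyc (x : K) :
    iterateFrobenius K 2 m (iterateFrobenius K 2 m x) ^ 2 = x := by
  simp only [iterateFrobenius_def, ← pow_mul]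
  rw [show 2 ^ m * 2 ^ m * 2 = 2 * 2 ^ m * 2 ^ m by ring, pow_cycle hσ]

theorem phi_pos (i : Fin 24) (t : K) : phi m (pos i) t =
    if i ∈ [(0 : Fin 24), 2, 5, 6, 8, 11, 13, 14, 17, 19, 21, 23] then iterateFrobenius K 2 m t
    else iterateFrobenius K 2 m t ^ 2 := by
  rw [phi, (rho_tbl i).2]
  split <;> simp [iterateFrobenius_def, ← pow_mul, mul_comm]

theorem simg_W (x : Fin 24 → K) :
    let θ := iterateFrobenius K 2 m
    let p : Fin 24 → K := ![θ (x 0), θ (x 1) ^ 2, θ (x 2), θ (x 3) ^ 2, θ (x 4) ^ 2, θ (x 5), θ (x 6),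
      θ (x 7) ^ 2, θ (x 8), θ (x 9) ^ 2, θ (x 10) ^ 2, θ (x 11), θ (x 12) ^ 2, θ (x 13), θ (x 14),
      θ (x 15) ^ 2, θ (x 16) ^ 2, θ (x 17), θ (x 18) ^ 2, θ (x 19), θ (x 20) ^ 2, θ (x 21), θ (x 22) ^ 2,
      θ (x 23)]
    simg σ (W (rel (K := K)) x) = W (rel (K := K)) ![p 1, p 0, p 3, p 2, p 5 + p 2 * p 3,
      p 4 + p 2 * p 2 * p 3, p 7, p 6, p 9, p 8, p 11, p 10, p 13 + p 6 * p 7, p 12 + p 6 * p 6 * p 7,
      p 15, p 14, p 17, p 16, p 19, p 18, p 21 + p 8 * p 9, p 20 + p 8 * p 8 * p 9, p 23 + p 10 * p 11,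
      p 22 + p 10 * p 11 * p 11] := by
  intro θ p
  let g : Fin 24 → ↥(chevF4.group K) := fun i => gX hc (pos_lt i).1 (x i)
  have hg : ∀ i, (σ (g i) : GL chevF4.Idx K) = rootX K (swp i) (p i) := fun i => by
    rw [hσ.act _ (pos_lt i).1]
    show elX chevF4 K (rho (pos i)) _ = elX chevF4 K (pos (swp i)) _
    rw [(rho_tbl i).1]
    congr 1
    rw [phi_pos hσ]
    fin_cases i <;> simp [p, θ]
  let w : ↥(chevF4.group K) := g 0 * (g 1 * (g 2 * (g 3 * (g 4 * (g 5 * (g 6 * (g 7 * (g 8 * (g 9 * (g 10 * (g 11 * (g 12 * (g 13 * (g 14 * (g 15 * (g 16 * (g 17 * (g 18 * (g 19 * (g 20 * (g 21 * (g 22 * (g 23 * 1)))))))))))))))))))))))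
  have hw : (w : GL chevF4.Idx K) = W (rel (K := K)) x := by
    simp only [w, Subgroup.coe_mul, Subgroup.coe_one, W]
    rfl
  rw [← hw, simg_of_mem w.2, ← W_perm, Subtype.coe_eta]
  simp only [w, map_mul, map_one, Subgroup.coe_mul, Subgroup.coe_one, hg, swp, Subtype.coe_eta]
  rfl

theorem fixed_W {x : Fin 24 → K} (h : W (rel (K := K)) x ∈ fixF σ) :
    Fix (iterateFrobenius K 2 m) x := by
  have e := W_injective ((simg_W hσ x).symm.trans (mem_fixF.1 h).2)
  have hcyc := theta_cyc hσ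
  have h0 := congrFun e 0; have h1 := congrFun e 1; have h2 := congrFun e 2; have h3 := congrFun e 3
  have h4 := congrFun e 4; have h6 := congrFun e 6; have h7 := congrFun e 7; have h8 := congrFun e 8
  have h9 := congrFun e 9; have h10 := congrFun e 10; have h11 := congrFun e 11; have h12 := congrFun e 12
  have h15 := congrFun e 15; have h16 := congrFun e 16; have h18 := congrFun e 18
  have h20 := congrFun e 20; have h22 := congrFun e 22
  simp at h0 h1 h2 h3 h4 h6 h7 h8 h9 h10 h11 h12 h15 h16 h18 h20 h22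
  constructor
  · exact h1.symm
  · exact h3.symm
  · rw [← h4, h2]
  · exact h7.symm
  · exact h9.symm
  · exact h10.symm
  · rw [← h12, h6]
  · exact h15.symm
  · exact h16.symm
  · exact h18.symm
  · rw [← h20, h8]
  · rw [← h22, h11, mul_comm (iterateFrobenius K 2 m (x 11))]

theorem mem_of_fix {x : Fin 24 → K} (h : Fix (iterateFrobenius K 2 m) x) :
    W (rel (K := K)) x ∈ V σ PosR := by
  refine ⟨W_mem_posU x, mem_fixF.2 ⟨uGen_le_group _ (W_mem_posU x), ?_⟩⟩
  rw [simg_W hσ]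
  congr 1
  set θ := iterateFrobenius K 2 m
  have hcyc : ∀ z, θ (θ z) * θ (θ z) = z := fun z => by rw [← sq]; exact theta_cyc hσ z
  have h2 : ∀ z : K, z + z = 0 := CharTwo.add_self_eq_zero
  have hq : ∀ z w : K, θ (θ z + θ w * w) ^ 2 + θ w * θ w * w = z := fun z w => by
    rw [map_add, map_mul, CharTwo.add_sq, mul_pow, sq, hcyc, sq, hcyc, sq, add_assoc,
      mul_comm w, h2, add_zero]
  have h3 : x 2 = θ (x 3) ^ 2 := by rw [h.f27, sq, hcyc]
  have h7 : x 6 = θ (x 7) ^ 2 := by rw [h.f34, sq, hcyc]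
  have h9 : x 8 = θ (x 9) ^ 2 := by rw [h.f35, sq, hcyc]
  have h11 : x 11 = θ (x 10) ^ 2 := by rw [h.f29, sq, hcyc]
  have h1 : x 0 = θ (x 1) ^ 2 := by rw [h.f33, sq, hcyc]
  have h15 : x 14 = θ (x 15) ^ 2 := by rw [h.f37, sq, hcyc]
  have h17 : x 17 = θ (x 16) ^ 2 := by rw [h.f38, sq, hcyc]
  have h19 : x 19 = θ (x 18) ^ 2 := by rw [h.f39, sq, hcyc]
  funext i
  fin_cases i
  · exact h1.symm
  · exact h.f33.symm
  · exact h3.symm
  · exact h.f27.symm
  · show θ (x 5) + θ (x 2) * θ (x 3) ^ 2 = x 4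
    rw [← h3, h.f28]
  · show θ (x 4) ^ 2 + θ (x 2) * θ (x 2) * θ (x 3) ^ 2 = x 5
    rw [← h3, h.f28]; exact hq _ _
  · exact h7.symm
  · exact h.f34.symm
  · exact h9.symm
  · exact h.f35.symm
  · exact h.f29.symm
  · exact h11.symm
  · show θ (x 13) + θ (x 6) * θ (x 7) ^ 2 = x 12
    rw [← h7, h.f36]
  · show θ (x 12) ^ 2 + θ (x 6) * θ (x 6) * θ (x 7) ^ 2 = x 13
    rw [← h7, h.f36]; exact hq _ _
  · exact h15.symm
  · exact h.f37.symm
  · exact h.f38.symm
  · exact h17.symm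
  · exact h.f39.symm
  · exact h19.symm
  · show θ (x 21) + θ (x 8) * θ (x 9) ^ 2 = x 20
    rw [← h9, h.f40]
  · show θ (x 20) ^ 2 + θ (x 8) * θ (x 8) * θ (x 9) ^ 2 = x 21
    rw [← h9, h.f40]; exact hq _ _
  · show θ (x 23) + θ (x 10) ^ 2 * θ (x 11) = x 22
    rw [← h11, h.f44, mul_comm]
  · show θ (x 22) ^ 2 + θ (x 10) ^ 2 * θ (x 11) * θ (x 11) = x 23
    rw [← h11, h.f44, mul_assoc, mul_comm (x 11)]; exact hq _ _

theorem scale_short {a : K} (ha : a ≠ 0) :
    Cj (G1 K m) (W (rel (K := K)) (fv (iterateFrobenius K 2 m) a 0 0 0 0 0 0 0 0 0 0 0))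
      (W (rel (K := K)) (fv (iterateFrobenius K 2 m) 1 0 0 0 0 0 0 0 0 0 0 0)) := by
  obtain ⟨t, ht⟩ := CfsgLib.ReeF4Out.sq_surj hσ (Units.mk0 a ha)⁻¹
  simp only [Units.val_inv_eq_inv_val, Units.val_mk0] at ht
  refine ⟨_, (CfsgLib.ReeF4Out.hA hσ t).2, ?_⟩
  have e : ∀ b : K, W (rel (K := K)) (fv (iterateFrobenius K 2 m) b 0 0 0 0 0 0 0 0 0 0 0) =
      X 24 b * X 33 (iterateFrobenius K 2 m b) := fun b => by
    simp [W, fv, (rel (K := K)).zero]
    rfl
  rw [e, e, conj_mul.symm, CfsgLib.ReeF4Out.hA_X hσ t (by decide), CfsgLib.ReeF4Out.hA_X hσ t (by decide),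
    e1_tbl.1, e1_tbl.2.1, CfsgLib.ReeF4Out.ev_eq hσ, CfsgLib.ReeF4Out.ev_eq hσ]
  simp only [zpow_ofNat, pow_zero, one_mul, mul_one, map_one]
  rw [ht, inv_mul_cancel₀ ha, show ((t : K) ^ 2 ^ m) ^ 2 = iterateFrobenius K 2 m ((t : K) ^ 2) by
    simp only [iterateFrobenius_def, ← pow_mul, mul_comm], ← map_mul, ht, inv_mul_cancel₀ ha, map_one]

theorem scale_long {u : K} (hu : u ≠ 0) :
    Cj (G1 K m) (W (rel (K := K)) (fv (iterateFrobenius K 2 m) 0 0 u 0 0 0 0 0 0 0 0 0))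
      (W (rel (K := K)) (fv (iterateFrobenius K 2 m) 0 0 1 0 0 0 0 0 0 0 0 0)) := by
  set θ := iterateFrobenius K 2 m
  have hθu : θ u ≠ 0 := (map_ne_zero θ).2 hu
  obtain ⟨t, ht⟩ := CfsgLib.ReeF4Out.norm_surj hσ (Units.mk0 (θ u) hθu)
  have ht' : θ (t : K) * t = θ u := by
    have := congrArg Units.val ht
    simpa [θ, iterateFrobenius_def, pow_succ] using this
  have ht2 : θ (t : K) ^ 2 * t = u := by
    refine θ.injective ?_
    rw [map_mul, map_pow, theta_cyc hσ, mul_comm, ht']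
  refine ⟨_, (CfsgLib.ReeF4Out.hA hσ t).2, ?_⟩
  have e : ∀ b : K, W (rel (K := K)) (fv θ 0 0 b 0 0 0 0 0 0 0 0 0) = X 28 (θ b) * X 30 b := fun b => by
    simp [W, fv, (rel (K := K)).zero]
    rfl
  have hθt : ((t : K) ^ 2 ^ m) = θ t := rfl
  rw [e, e, conj_mul.symm, CfsgLib.ReeF4Out.hA_X hσ t (by decide), CfsgLib.ReeF4Out.hA_X hσ t (by decide),
    e1_tbl.2.2.1, e1_tbl.2.2.2, CfsgLib.ReeF4Out.ev_eq hσ, CfsgLib.ReeF4Out.ev_eq hσ, hθt, map_one]
  simp only [zpow_neg, zpow_one, zpow_ofNat, pow_one]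
  rw [← mul_inv, ← mul_inv, ht', ht2, inv_mul_cancel₀ hθu, inv_mul_cancel₀ hu]

theorem twHyp : Tw (iterateFrobenius K 2 m) (rel (K := K)) (G1 K m) where
  cyc := theta_cyc hσ
  fin := Finite.of_fintype K
  inj _ _ h := W_injective h
  range t x := by
    obtain ⟨y, hy⟩ := posU_le (mul_mem (mul_mem (W_mem_posU t) (W_mem_posU x)) (inv_mem (W_mem_posU t)))
    exact ⟨y, hy.symm⟩
  fixed _ h := fixed_W hσ (G1_le_fix hσ h)
  mem _ h := V_pos_le hσ (mem_of_fix hσ h)
  nA := ⟨nJ K false, nJ_mem hσ false, fun p hp t => by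
    rw [rootX, rootX, CfsgLib.ReeF4Out.nProd_conj hσ _ (pos_lt _).1, wA_tbl p hp]⟩
  nB := ⟨nJ K true, nJ_mem hσ true, fun p hp t => by
    rw [rootX, rootX, CfsgLib.ReeF4Out.nProd_conj hσ _ (pos_lt _).1, wB_tbl p hp]⟩
  scaleA _ h := scale_short hσ h
  scaleZ _ h := scale_long hσ h

theorem central (y : Fin 24 → K) :
    W (rel (K := K)) y * W (rel (K := K)) (fv (iterateFrobenius K 2 m) 0 0 0 0 0 0 0 0 0 0 0 1) =
      W (rel (K := K)) (fv (iterateFrobenius K 2 m) 0 0 0 0 0 0 0 0 0 0 0 1) * W (rel (K := K)) y := by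
  rw [W_mul, W_mul]
  congr 1
  funext i
  fin_cases i <;> simp [mv, fv, add_comm]

theorem not_cj : ¬ Cj (G1 K m)
    (W (rel (K := K)) (fv (iterateFrobenius K 2 m) 0 0 0 0 0 0 0 0 0 0 0 1))
    (W (rel (K := K)) (fv (iterateFrobenius K 2 m) 1 0 0 0 0 0 0 0 0 0 0 0)) := by
  rintro ⟨h, hh, he⟩
  have hh' : h ∈ chevF4.group K := fixF_le_group (G1_le_fix hσ hh)
  obtain ⟨u, hu, d, hd, L, v, hv, rfl⟩ := CfsgLib.Chev.exists_bruhat hc hcomm hh'
  obtain ⟨x, rfl⟩ := posU_le hu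
  obtain ⟨y, rfl⟩ := posU_le (uInv_le_pos hc L hv)
  set θ := iterateFrobenius K 2 m
  set R := rel (K := K)
  set A := W R (fv θ 1 0 0 0 0 0 0 0 0 0 0 0) with hA
  have hZ : W R (fv θ 0 0 0 0 0 0 0 0 0 0 0 1) = X 44 1 * X 47 1 := by
    simp [W, fv, θ, R, (rel (K := K)).zero]
    rfl
  have h44 : (44 : ℕ) < 48 := by decide
  have h47 : (47 : ℕ) < 48 := by decide
  have hw := sigs_lt hc L (show 44 < chevF4.nroots from h44) (T := tb)
  have hw' := sigs_lt hc L (show 47 < chevF4.nroots from h47) (T := tb)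
  obtain ⟨c, hc1⟩ := diagonal_conj_elX hc hd hw
  obtain ⟨c', hc2⟩ := diagonal_conj_elX hc hd hw'
  have hn : nProd chevF4 K L * (X 44 1 * X 47 1) * (nProd chevF4 K L)⁻¹ =
      X (sigs chevF4 tb L 44) 1 * X (sigs chevF4 tb L 47) 1 := by
    rw [conj_mul.symm, CfsgLib.ReeF4Out.nProd_conj hσ _ h44, CfsgLib.ReeF4Out.nProd_conj hσ _ h47]
  have hpair : chevF4.pairing (sigs chevF4 tb L 44) (sigs chevF4 tb L 47) ≠ 0 := by
    rw [pairing_sigs L h44 h47]; exact pairing_tbl.1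
  generalize sigs chevF4 tb L 44 = w at hw hc1 hn hpair
  generalize sigs chevF4 tb L 47 = w' at hw' hc2 hn hpair
  have key : A * W R x = W R x * (elX chevF4 K w ((c : K) * 1) * elX chevF4 K w' ((c' : K) * 1)) := by
    rw [← he]
    calc W R x * (d * nProd chevF4 K L) * W R y * W R (fv θ 0 0 0 0 0 0 0 0 0 0 0 1) *
        (W R x * (d * nProd chevF4 K L) * W R y)⁻¹ * W R x
        = W R x * (d * (nProd chevF4 K L * (W R y * W R (fv θ 0 0 0 0 0 0 0 0 0 0 0 1) * (W R y)⁻¹)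
            * (nProd chevF4 K L)⁻¹) * d⁻¹) := by group
      _ = _ := by rw [central hσ, mul_inv_cancel_right, hZ, hn, ← conj_mul, hc1, hc2]
  rw [mul_one, mul_one] at key
  set p := elX chevF4 K w (c : K) with hp
  set p' := elX chevF4 K w' (c' : K) with hp'
  have hAmem : (W R x)⁻¹ * (A * W R x) ∈ uGen chevF4 K PosR :=
    mul_mem (inv_mem (W_mem_posU x)) (mul_mem (W_mem_posU _) (W_mem_posU x))
  have hpp : p * p' ∈ uGen chevF4 K PosR := by
    rw [key, inv_mul_cancel_left] at hAmem; exact hAmem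
  rcases Nat.lt_or_ge w 24 with hneg | hpos <;> rcases Nat.lt_or_ge w' 24 with hneg' | hpos'
  · have h1 : p * p' ∈ uGen chevF4 K (fun r => r < chevF4.nroots / 2) :=
      mul_mem (elX_mem_uGen hw (P := fun r => r < chevF4.nroots / 2) hneg _)
        (elX_mem_uGen hw' (P := fun r => r < chevF4.nroots / 2) hneg' _)
    have h2 := borel_inf_neg hc (pos_le_borel hc hpp) h1
    rw [h2, mul_one, mul_eq_right, hA, ← W_zero R] at key
    simpa [fv] using congrFun (W_injective key) 0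
  · refine elX_not_mem_borel hc hw hneg c.ne_zero (pos_le_borel hc ?_)
    have := mul_mem hpp (inv_mem (elX_mem_uGen hw' (P := PosR) hpos' (c' : K)))
    rwa [mul_inv_cancel_right] at this
  · refine elX_not_mem_borel hc hw' hneg' c'.ne_zero (pos_le_borel hc ?_)
    have := mul_mem (inv_mem (elX_mem_uGen hw (P := PosR) hpos (c : K))) hpp
    rwa [inv_mul_cancel_left] at this
  · obtain ⟨i, hi⟩ := pos_surj ⟨w, hw⟩ hpos
    obtain ⟨j, hj⟩ := pos_surj ⟨w', hw'⟩ hpos'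
    simp only at hi hj
    have e1 : p = W R (Pi.single i (c : K)) := by rw [W_single, rootX, hi]
    have e2 : p' = W R (Pi.single j (c' : K)) := by rw [W_single, rootX, hj]
    rw [e1, e2, hA, W_mul, W_mul, W_mul] at key
    have k0 := congrFun (W_injective key) 0
    have k1 := congrFun (W_injective key) 1
    rw [mv_0, mv_0, mv_0] at k0
    rw [mv_1, mv_1, mv_1] at k1
    have f0 : fv θ 1 0 0 0 0 0 0 0 0 0 0 0 0 = (1 : K) := rfl
    have f1 : fv θ 1 0 0 0 0 0 0 0 0 0 0 0 1 = (1 : K) := map_one θ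
    rw [f0, add_comm, add_left_cancel_iff] at k0
    rw [f1, add_comm, add_left_cancel_iff] at k1
    have m0 : i = 0 ∨ j = 0 := by
      by_contra hne
      push Not at hne
      simp [Pi.single_eq_of_ne (Ne.symm hne.1), Pi.single_eq_of_ne (Ne.symm hne.2)] at k0
    have m1 : i = 1 ∨ j = 1 := by
      by_contra hne
      push Not at hne
      simp [Pi.single_eq_of_ne (Ne.symm hne.1), Pi.single_eq_of_ne (Ne.symm hne.2)] at k1
    rcases m0 with rfl | rfl
    · have : j = 1 := m1.resolve_left (by decide)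
      subst this
      exact hpair (hi ▸ hj ▸ pairing_tbl.2.1)
    · have : i = 1 := m1.resolve_right (by decide)
      subst this
      exact hpair (hi ▸ hj ▸ pairing_tbl.2.2)

theorem U_isPGroup : IsPGroup 2 ↥((V σ PosR).subgroupOf (G1 K m)) := by
  refine IsPGroup.of_card (n := (2 * m + 1) * 12) ?_
  rw [Nat.card_congr (Subgroup.subgroupOfEquivOfLe (V_pos_le hσ)).toEquiv, card_V_pos hσ, hσ.card, ← pow_mul]

theorem U_index : ¬ 2 ∣ ((V σ PosR).subgroupOf (G1 K m)).index := by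
  have h := Subgroup.card_mul_index ((V σ PosR).subgroupOf (G1 K m))
  rw [Nat.card_congr (Subgroup.subgroupOfEquivOfLe (V_pos_le hσ)).toEquiv, card_V_pos hσ,
    ← CfsgLib.ReeF4.fix_eq hσ, card_fix hσ, sum_dimI, mul_assoc (Fintype.card K ^ 12),
    mul_right_inj' (pow_ne_zero _ Fintype.card_ne_zero), hσ.card] at h
  have hev : (2 : ℕ) ∣ 2 ^ (2 * m + 1) := dvd_pow_self 2 (Nat.succ_ne_zero _)
  have hpos : 1 ≤ 2 ^ (2 * m + 1) := Nat.one_le_two_pow
  rw [CfsgLib.ReeF4.fix_eq hσ] at h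
  rw [h]
  generalize 2 ^ (2 * m + 1) = q at hev hpos
  rw [← even_iff_two_dvd] at hev ⊢
  simp [Nat.even_mul, Nat.even_add, Nat.even_pow, Nat.even_sub hpos, hev]

theorem conj_into_U {g : GL chevF4.Idx K} (hg : g ∈ G1 K m) (h2 : orderOf g = 2) :
    ∃ k ∈ G1 K m, k * g * k⁻¹ ∈ V σ PosR := by
  have := Fact.mk Nat.prime_two
  have hP := U_isPGroup hσ
  have hI := U_index hσ
  generalize hS : (V σ PosR).subgroupOf (G1 K m) = S at hP hI
  have hz : IsPGroup 2 (Subgroup.zpowers (⟨g, hg⟩ : ↥(G1 K m))) :=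
    IsPGroup.of_card (n := 1) (by rw [Nat.card_zpowers, ← Subgroup.orderOf_coe, pow_one]; exact h2)
  obtain ⟨Q, hQ⟩ := hz.exists_le_sylow
  obtain ⟨k, hk⟩ := MulAction.exists_smul_eq ↥(G1 K m) Q (hP.toSylow hI)
  have hm : k * ⟨g, hg⟩ * k⁻¹ ∈ ((hP.toSylow hI : Sylow 2 ↥(G1 K m)) : Subgroup ↥(G1 K m)) := by
    rw [← hk]
    exact ⟨⟨g, hg⟩, hQ (Subgroup.mem_zpowers _), rfl⟩
  rw [IsPGroup.toSylow_coe, ← hS, Subgroup.mem_subgroupOf] at hm
  exact ⟨k, k.2, by simpa only [Subgroup.coe_mul, InvMemClass.coe_inv] using hm⟩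

theorem classes {g : GL chevF4.Idx K} (hg : g ∈ G1 K m) (h2 : orderOf g = 2) :
    Cj (G1 K m) g (W (rel (K := K)) (fv (iterateFrobenius K 2 m) 1 0 0 0 0 0 0 0 0 0 0 0)) ∨
      Cj (G1 K m) g (W (rel (K := K)) (fv (iterateFrobenius K 2 m) 0 0 1 0 0 0 0 0 0 0 0 0)) := by
  obtain ⟨k, hk, hkU⟩ := conj_into_U hσ hg h2
  obtain ⟨x, hx⟩ := posU_le hkU.1
  have hgg : g * g = 1 := by rw [← sq, ← h2, pow_orderOf_eq_one]
  have hg1 : g ≠ 1 := fun h => by rw [h, orderOf_one] at h2; omega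
  have P := twHyp hσ
  have hinv : Inv (iterateFrobenius K 2 m) P x := by
    refine ⟨?_, ?_, ?_⟩
    · rw [hx]; exact mul_mem (mul_mem hk hg) (inv_mem hk)
    · rw [hx, conj_mul, hgg, mul_one, mul_inv_cancel]
    · intro h0
      rw [h0, W_zero] at hx
      exact hg1 (conj_eq_one_iff.1 hx.symm)
  have hcj : Cj (G1 K m) g (W (rel (K := K)) x) := ⟨k, hk, hx.symm⟩
  rcases classify (iterateFrobenius K 2 m) P hinv with hc' | hc'
  · exact Or.inl (hcj.trans hc')
  · exact Or.inr (hcj.trans hc')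

theorem two_classes : (ConjClasses.mk '' {g : ↥(G1 K m) | orderOf g = 2}).ncard = 2 := by
  set θ := iterateFrobenius K 2 m
  have P := twHyp hσ
  have R := rel (K := K)
  set G := G1 K m
  have ord : ∀ i j : Fin 24, i < j → Plain i j → ∀ x : Fin 24 → K, x ≠ 0 →
      W R x = rootX K i (x i) * rootX K j (x j) → orderOf (W R x) = 2 := fun i j hij hp x hx h => by
    refine orderOf_eq_prime (p := 2) ?_ ?_
    · rw [sq, h, mul_assoc, ← mul_assoc (rootX K j (x j)), R.comm i j hij hp, mul_assoc, R.add,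
        ← mul_assoc, R.add, CharTwo.add_self_eq_zero, CharTwo.add_self_eq_zero, R.zero, R.zero, one_mul]
    · rw [← W_zero R]; exact fun e => hx (W_injective e)
  let A1 : ↥G := ⟨_, P.mem _ (fix_fv θ 1 0 0 0 0 0 0 0 0 0 0 0)⟩
  let Z1 : ↥G := ⟨_, P.mem _ (fix_fv θ 0 0 1 0 0 0 0 0 0 0 0 0)⟩
  have oA : orderOf A1 = 2 := by
    rw [← Subgroup.orderOf_coe]
    refine ord 0 1 (by decide) (by decide) _ (fun e => by simpa [fv] using congrFun e 0) ?_
    simp [W, fv, R.zero]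
  have oZ : orderOf Z1 = 2 := by
    rw [← Subgroup.orderOf_coe]
    refine ord 4 5 (by decide) (by decide) _ (fun e => by simpa [fv] using congrFun e 5) ?_
    simp [W, fv, R.zero]
  have hset : ConjClasses.mk '' {g : ↥G | orderOf g = 2} = {ConjClasses.mk A1, ConjClasses.mk Z1} := by
    ext x
    constructor
    · rintro ⟨g, hg, rfl⟩
      have hg' : orderOf (g : GL chevF4.Idx K) = 2 := by rw [Subgroup.orderOf_coe]; exact hg
      rcases classes hσ g.2 hg' with ⟨h, hh, he⟩ | ⟨h, hh, he⟩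
      · exact Or.inl (ConjClasses.mk_eq_mk_iff_isConj.2 (isConj_iff.2 ⟨⟨h, hh⟩, Subtype.ext he⟩))
      · exact Or.inr (ConjClasses.mk_eq_mk_iff_isConj.2 (isConj_iff.2 ⟨⟨h, hh⟩, Subtype.ext he⟩))
    · rintro (rfl | rfl)
      · exact ⟨A1, oA, rfl⟩
      · exact ⟨Z1, oZ, rfl⟩
  rw [hset, Set.ncard_pair]
  intro e
  obtain ⟨h, he⟩ := isConj_iff.1 (ConjClasses.mk_eq_mk_iff_isConj.1 e)
  have hAZ : Cj G (A1 : GL chevF4.Idx K) (Z1 : GL chevF4.Idx K) := ⟨h, h.2, congrArg Subtype.val he⟩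
  exact not_cj hσ ((top_Z θ P one_ne_zero).trans hAZ.symm)

end CfsgLib.ReeF4Invol
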