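import Cfsg.Agent.Lib.ReeF4Invol.Main
import Cfsg.Agent.Lib.ReeF4Tits.Derived

/-!
The two classes of involutions of the Tits group.
-/

set_option autoImplicit false
set_option linter.unusedSectionVars false
set_option maxRecDepth 8000

namespace CfsgLib.ReeF4Invol

open Cfsg.Lie CfsgLib.Chev CfsgLib.ReeF4 CfsgLib.ReeF4Out

theorem comm_test : wordEqTest chevF4 tb
    (([f4b, f4a, f4aab]).map (sigs chevF4 tb (altW false 1)) ++ [f4p1, f4p4])
    ([f4p1, f4p4] ++ ([f4b, f4a, f4aab]).map (sigs chevF4 tb (altW false 1))) = true := by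
  decide +kernel

/-- In a subgroup of index two containing representatives whose centralisers leave it, classes do not split. -/
theorem cj_subgroup {G : Type*} [Group G] {T : Subgroup G} (hT : T.index = 2) {g r c : G}
    (hc' : c ∉ T) (hcr : c * r * c⁻¹ = r) (h : ∃ k : G, k * g * k⁻¹ = r) :
    ∃ k ∈ T, k * g * k⁻¹ = r := by
  obtain ⟨k, hk⟩ := h
  by_cases hkT : k ∈ T
  · exact ⟨k, hkT, hk⟩
  · refine ⟨c * k, ?_, ?_⟩
    · rw [Subgroup.mul_mem_iff_of_index_two hT]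
      exact iff_of_false hc' hkT
    · rw [show c * k * g * (c * k)⁻¹ = c * (k * g * k⁻¹) * c⁻¹ by group, hk, hcr]

section
variable {K : Type*} [Field K] [CharP K 2] [Fintype K] {σ : MulAut ↥(chevF4.group K)} (hσ : IsSigma 0 σ)
include hσ

theorem a_not_mem : qg hσ true (1 : K) 0 ∉ commutator ↥(G1 K 0) := by
  intro h
  have h1 := CfsgLib.ReeF4Tits.index_derived hσ
  have h2 := CfsgLib.ReeF4Tits.gen_top hσ
  rw [sup_eq_left.2 (Subgroup.zpowers_le.2 h)] at h2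
  rw [h2, Subgroup.index_top] at h1
  omega

theorem a_comm : qg hσ true (1 : K) 0 * qg hσ true (0 : K) 1 * (qg hσ true (1 : K) 0)⁻¹ =
    qg hσ true (0 : K) 1 := by
  rw [← CfsgLib.ReeF4Tits.a_sq hσ]
  group

theorem exists_comm_p : ∃ c : ↥(G1 K 0), c ∉ commutator ↥(G1 K 0) ∧
    c * pg hσ true (1 : K) * c⁻¹ = pg hσ true (1 : K) := by
  refine ⟨CfsgLib.ReeF4Tits.nuG hσ false 1 * qg hσ true (1 : K) 0 * (CfsgLib.ReeF4Tits.nuG hσ false 1)⁻¹,
    fun h => a_not_mem hσ ((CfsgLib.ReeF4Tits.conj_mem_iff hσ).1 h), ?_⟩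
  have hc1 := CfsgLib.ReeF4Tits.coe_nuG_conj hσ false 1 (by decide) (CfsgLib.ReeF4Tits.coe_a hσ)
  have hp := CfsgLib.ReeF4Tits.coe_p hσ
  generalize CfsgLib.ReeF4Tits.nuG hσ false 1 * qg hσ true (1 : K) 0 *
    (CfsgLib.ReeF4Tits.nuG hσ false 1)⁻¹ = c at hc1
  have e := word_eq_of_test hc hσ.char2 comm_test (K := K)
  rw [mul_inv_eq_iff_eq_mul]
  refine Subtype.ext ?_
  rw [Subgroup.coe_mul, Subgroup.coe_mul, hc1, hp, ← CfsgLib.ReeF4Tits.xw_append,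
    ← CfsgLib.ReeF4Tits.xw_append]
  exact e

theorem coe_pg_A : (pg hσ true (1 : K) : GL chevF4.Idx K) =
    W (rel (K := K)) (fv (iterateFrobenius K 2 0) 1 0 0 0 0 0 0 0 0 0 0 0) := by
  rw [coe_pg, one_pow, (X_comm' (show ((pR true).1, (pR true).2) ∈ commPairs by decide) _ _).eq]
  simp [W, fv, (rel (K := K)).zero]
  rfl

theorem coe_qg_Z : (qg hσ true (0 : K) 1 : GL chevF4.Idx K) =
    W (rel (K := K)) (fv (iterateFrobenius K 2 0) 0 0 1 0 0 0 0 0 0 0 0 0) := by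
  obtain ⟨h1, h2, -, -⟩ := qR_facts true
  rw [coe_qg]
  simp [W, fv, (rel (K := K)).zero, X_zero' hσ h1, X_zero' hσ h2]
  rfl

theorem two_classes_derived :
    (ConjClasses.mk '' {g : ↥(commutator ↥(G1 K 0)) | orderOf g = 2}).ncard = 2 := by
  have hT := CfsgLib.ReeF4Tits.index_derived hσ
  have hA := CfsgLib.ReeF4Tits.p_mem hσ
  have hZ := CfsgLib.ReeF4Tits.a2_mem hσ
  set T := commutator ↥(G1 K 0)
  let A : ↥T := ⟨_, hA⟩
  let Z : ↥T := ⟨_, hZ⟩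
  have hne : ∀ (h : ↥(G1 K 0)), h * pg hσ true (1 : K) * h⁻¹ ≠ qg hσ true (0 : K) 1 := fun h e => by
    have hAZ : Cj (G1 K 0) (pg hσ true (1 : K) : GL chevF4.Idx K) (qg hσ true (0 : K) 1 : GL chevF4.Idx K) :=
      ⟨h, h.2, congrArg Subtype.val e⟩
    rw [coe_pg_A hσ, coe_qg_Z hσ] at hAZ
    exact not_cj hσ ((top_Z _ (twHyp hσ) one_ne_zero).trans hAZ.symm)
  have oA : orderOf A = 2 := by
    rw [← Subgroup.orderOf_coe]
    refine orderOf_eq_prime (p := 2) ?_ (pg_ne_one hσ)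
    show pg hσ true (1 : K) ^ 2 = 1
    rw [sq, pg_self]
  have oZ : orderOf Z = 2 := by
    rw [← Subgroup.orderOf_coe]
    refine orderOf_eq_prime (p := 2) ?_ (fun e => one_ne_zero (qg_inj hσ (e.trans (qg_zero hσ true).symm)).2)
    show qg hσ true (0 : K) 1 ^ 2 = 1
    rw [sq, qg_sq, zero_pow (Nat.succ_ne_zero _), qg_zero]
  have hset : ConjClasses.mk '' {g : ↥T | orderOf g = 2} = {ConjClasses.mk A, ConjClasses.mk Z} := by
    ext x
    constructor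
    · rintro ⟨g, hg, rfl⟩
      have hg' : orderOf ((g : ↥(G1 K 0)) : GL chevF4.Idx K) = 2 := by
        rw [Subgroup.orderOf_coe, Subgroup.orderOf_coe]; exact hg
      rcases classes hσ g.1.2 hg' with ⟨h, hh, he⟩ | ⟨h, hh, he⟩
      · rw [← coe_pg_A hσ] at he
        obtain ⟨c, hc', hcr⟩ := exists_comm_p hσ
        obtain ⟨k, hk, hke⟩ := cj_subgroup hT hc' hcr (g := g.1) ⟨⟨h, hh⟩, Subtype.ext he⟩
        exact Or.inl (ConjClasses.mk_eq_mk_iff_isConj.2 (isConj_iff.2 ⟨⟨k, hk⟩, Subtype.ext hke⟩))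
      · rw [← coe_qg_Z hσ] at he
        obtain ⟨k, hk, hke⟩ := cj_subgroup hT (a_not_mem hσ) (a_comm hσ) (g := g.1) ⟨⟨h, hh⟩, Subtype.ext he⟩
        exact Or.inr (ConjClasses.mk_eq_mk_iff_isConj.2 (isConj_iff.2 ⟨⟨k, hk⟩, Subtype.ext hke⟩))
    · rintro (rfl | rfl)
      · exact ⟨A, oA, rfl⟩
      · exact ⟨Z, oZ, rfl⟩
  rw [hset, Set.ncard_pair]
  intro e
  obtain ⟨h, he⟩ := isConj_iff.1 (ConjClasses.mk_eq_mk_iff_isConj.1 e)
  exact hne h.1 (congrArg Subtype.val he)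

end

end CfsgLib.ReeF4Invol
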